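import Cfsg.Agent.TwoBlockMathieu.Classes

/-!
# Powers of the representatives
-/

set_option autoImplicit false
set_option linter.unusedSectionVars false
set_option linter.style.haveILetI false

namespace CfsgLib.TwoBlockMathieu

open Cfsg CfsgLib.Mathieu CfsgLib.Schur.Pc CfsgLib.SporadicOut

theorem fix_card_pow {σ : Equiv.Perm GolayPt} {k : ℕ} (hk : Nat.Coprime k (orderOf σ)) :
    (Finset.univ.filter fun p => (σ ^ k) p = p).card =
      (Finset.univ.filter fun p => σ p = p).card := by
  refine congrArg Finset.card (Finset.filter_congr fun p _ => ⟨fun h => ?_, fun h => ?_⟩)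
  · obtain ⟨m, hm⟩ := exists_pow_eq_self_of_coprime hk
    have hpow : ∀ n : ℕ, ((σ ^ k) ^ n) p = p := fun n => by
      induction n with
      | zero => simp
      | succ n ih => rw [pow_succ, Equiv.Perm.mul_apply, h, ih]
    have := hpow m
    rwa [hm] at this
  · induction k generalizing p with
    | zero => simp
    | succ n ih =>
      have hn : ∀ n : ℕ, (σ ^ n) p = p := fun n => by
        induction n with
        | zero => simp
        | succ n ih => rw [pow_succ, Equiv.Perm.mul_apply, h, ih]
      exact hn _

variable {D : ClassCert} {inH : ℕ → Bool} {H : Subgroup (Equiv.Perm GolayPt)}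
variable (hD : D.Valid inH H)

include hD

/-- A power prime to the order is fused with a representative of the same order and fixed point
number. -/
theorem exists_isConj_pow (i : Fin D.cls.length) {k : ℕ} (hk : Nat.Coprime k (D.cls[i].r)) :
    ∃ j : Fin D.cls.length, D.cls[j].r = D.cls[i].r ∧ D.cls[j].f = D.cls[i].f ∧
      IsConj (elt hD i ^ k) (elt hD j) := by
  have hk' : Nat.Coprime k (orderOf (elt hD i)) := by rwa [orderOf_elt hD i]
  have ho : orderOf (elt hD i ^ k) = D.cls[i].r := by
    rw [Nat.Coprime.orderOf_pow hk'.symm, orderOf_elt hD i]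
  obtain ⟨hodd, hne⟩ := odd_orderOf_elt hD i
  have ho' : orderOf (elt hD i ^ k) = orderOf (elt hD i) := ho.trans (orderOf_elt hD i).symm
  obtain ⟨j, hj⟩ := exists_isConj_elt hD (g := elt hD i ^ k) (ho'.symm ▸ hodd) fun h1 => by
    rw [h1, orderOf_one, eq_comm, orderOf_eq_one_iff] at ho'
    exact hne ho'
  obtain ⟨c, hc⟩ := isConj_iff.1 hj
  refine ⟨j, ?_, ?_, hj⟩
  · rw [← orderOf_elt hD j, ← ho, ← hc,
      show c * elt hD i ^ k * c⁻¹ = MulAut.conj c (elt hD i ^ k) from rfl, MulEquiv.orderOf_eq]
  · rw [← fix_elt hD j, ← fix_elt hD i, ← hc]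
    refine (fix_card_conj c.1 (elt hD i ^ k).1).trans ?_
    exact fix_card_pow (by rwa [Subgroup.orderOf_coe])

/-- A representative tabled as the inverse of another one. -/
theorem elt_eq_inv {i j : Fin D.cls.length}
    (h : allBelow 24 (fun t => app D.cls[j].a (app D.cls[i].a t) == t) = true) :
    elt hD j = (elt hD i)⁻¹ := by
  refine eq_inv_of_mul_eq_one_left (Subtype.ext (Equiv.ext fun p => enc.injective (Fin.ext ?_)))
  simp only [allBelow_iff, beq_iff_eq] at h
  have := h _ (enc p).isLt
  rw [rep_elt hD i p, rep_elt hD j] at this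
  exact this

/-- The number of conjugates of a representative. -/
theorem index_elt_eq (i : Fin D.cls.length) {n : ℕ} (hn : Nat.card H = n)
    {w : ℕ} (hw : w * D.cls[i].L.length = n) :
    (Subgroup.centralizer ({elt hD i} : Set H)).index = w := by
  have h := index_centralizer_elt hD i
  rw [hn, ← hw] at h
  refine Nat.eq_of_mul_eq_mul_right ?_ h
  rw [← card_centralizer hD i]
  exact Nat.card_pos

end CfsgLib.TwoBlockMathieu
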