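import Cfsg.Agent.TwoBlockMathieu.M22Data

/-! The certificate for the classes of elements of odd order of M22 is valid. -/

set_option autoImplicit false

namespace CfsgLib.TwoBlockMathieu.M22Data

open Cfsg CfsgLib.Mathieu CfsgLib.Schur.Pc CfsgLib.SporadicOut

theorem factorization_three : (443520 : ℕ).factorization 3 = 2 := by
  rw [show (443520 : ℕ) = 3 ^ 2 * 49280 by norm_num, Nat.factorization_mul (by norm_num)
    (by norm_num), Finsupp.coe_add, Pi.add_apply, Nat.Prime.factorization_pow Nat.prime_three,
    Finsupp.single_eq_same, Nat.factorization_eq_zero_of_not_dvd (by norm_num)]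

theorem valid : cert.Valid inM22 Spor.M22 where
  le := SporM22_le
  sound := inGroup_of_inM22
  frozen := fun g hg q hq => by
    simp only [cert, List.mem_cons, List.not_mem_nil, or_false] at hq
    rcases hq with rfl | rfl
    exacts [(mem_SporM22.1 hg).1.2, pt_0 ▸ (mem_SporM22.1 hg).2]
  fix := fixM22
  ok := by decide +kernel
  odd_primes := by
    intro p hp hd
    rw [card_SporM22, show (443520 : ℕ) = 2 ^ 7 * 3 ^ 2 * (5 * 7 * 11) by norm_num] at hd
    rw [card_SporM22]
    have hpp : ∀ q : ℕ, q.Prime → ∀ k, p ∣ q ^ k → p = q := fun q hq k h =>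
      (Nat.prime_dvd_prime_iff_eq hp hq).1 (hp.dvd_of_dvd_pow h)
    rcases (Nat.Prime.dvd_mul hp).1 hd with h | h
    · rcases (Nat.Prime.dvd_mul hp).1 h with h | h
      · exact Or.inl (hpp 2 Nat.prime_two 7 h)
      · exact Or.inr (Or.inl (hpp 3 Nat.prime_three 2 h))
    · refine Or.inr (Or.inr ?_)
      rcases (Nat.Prime.dvd_mul hp).1 h with h | h
      · rcases (Nat.Prime.dvd_mul hp).1 h with h | h
        · obtain rfl := (Nat.prime_dvd_prime_iff_eq hp (by norm_num)).1 h
          exact ⟨(1, elts0), by simp [cert], rep1, rfl, rfl, by norm_num⟩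
        · obtain rfl := (Nat.prime_dvd_prime_iff_eq hp (by norm_num)).1 h
          exact ⟨(2, elts1), by simp [cert], rep2, rfl, rfl, by norm_num⟩
      · obtain rfl := (Nat.prime_dvd_prime_iff_eq hp (by norm_num)).1 h
        exact ⟨(4, elts2), by simp [cert], rep4, rfl, rfl, by norm_num⟩
  sylow_three := by rw [card_SporM22, factorization_three]; rfl

end CfsgLib.TwoBlockMathieu.M22Data
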