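import Cfsg.Agent.TwoBlockMathieu.Values
import Cfsg.Agent.Characters.Integrality

/-! Sums over the regular elements of a character outside the principal 2-block. -/

set_option autoImplicit false
set_option linter.unusedSectionVars false
set_option linter.style.haveILetI false

namespace CfsgLib.TwoBlockMathieu

open CfsgLib Cfsg
open scoped ComplexConjugate

variable {G : Type} [Group G] [Fintype G] {M : Ideal AlgInt}

/-- The two orthogonality relations: against the trivial character and a permutation character. -/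
theorem sums_eq_zero (hM : Cfsg.IsPModular 2 M) {χ : IrrCharacter G}
    (hχ : χ ∉ Cfsg.principalBlock M G) (π : G → ℕ)
    (hirr : Cfsg.IsIrrCharacter G (fun g => (π g : ℂ) - 1)) (hodd : Odd (π 1 - 1)) (hpos : 1 ≤ π 1) :
    (∑ᶠ x ∈ {x : G | ¬ 2 ∣ orderOf x}, (χ : G → ℂ) x) = 0 ∧
      (∑ᶠ x ∈ {x : G | ¬ 2 ∣ orderOf x}, (π x : ℂ) * (χ : G → ℂ) x) = 0 := by
  classical
  haveI := Blocks.IsPModular.isPrime hM
  let one : IrrCharacter G := BlocksCharsC.trivialIrr G
  have hone : one ∈ Cfsg.principalBlock M G := by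
    rw [BlocksCharsC.principalBlock_eq]; exact Blocks.mem_blockOf_self _
  have h1 : (∑ᶠ x ∈ {x : G | ¬ 2 ∣ orderOf x}, (χ : G → ℂ) x) = 0 := by
    refine Eq.trans (finsum_congr fun x => finsum_congr fun _ => ?_)
      (sum_regular_eq_zero hM hχ hone)
    simp [one, BlocksCharsC.trivialIrr]
  refine ⟨h1, ?_⟩
  let ψ : IrrCharacter G := ⟨_, hirr⟩
  have hψ : ψ ∈ Cfsg.principalBlock M G := by
    refine real_mem_principalBlock hM ψ ?_ fun g => by simp [ψ]
    have : Cfsg.charDegree (ψ : G → ℂ) = π 1 - 1 := by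
      simp only [Cfsg.charDegree, ψ]
      rw [← Nat.cast_one, ← Nat.cast_sub hpos]
      simp
    rwa [this]
  have h2 := sum_regular_eq_zero hM hχ hψ
  rw [show {x : G | ¬ 2 ∣ orderOf x} = ↑(Finset.univ.filter fun x : G => ¬ 2 ∣ orderOf x) by
    ext; simp, finsum_mem_coe_finset] at h1 h2 ⊢
  rw [← add_zero (0 : ℂ)]
  nth_rewrite 1 [← h2]
  rw [← h1, ← Finset.sum_add_distrib]
  refine Finset.sum_congr rfl fun x _ => ?_
  simp only [ψ, map_sub, Complex.conj_natCast, map_one]
  ring

/-- The degree divides the group order. -/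
theorem degree_dvd_card {χ : G → ℂ} (h : Cfsg.IsIrrCharacter G χ) {d : ℕ} (hd : χ 1 = d) :
    d ∣ Nat.card G := by
  obtain ⟨n, ρ, hρ, rfl⟩ := h
  rw [Representation.char_one, Nat.cast_inj] at hd
  exact hd ▸ Characters.finrank_dvd_card ρ

/-- A single block: everything is principal. -/
theorem sameBlock_of_all_principal (hM : Cfsg.IsPModular 2 M)
    (h : ∀ χ : IrrCharacter G, χ ∈ Cfsg.principalBlock M G) (χ ψ : IrrCharacter G) :
    Cfsg.SameBlock M (χ : G → ℂ) (ψ : G → ℂ) := by
  haveI := Blocks.IsPModular.isPrime hM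
  have h1 := h χ
  have h2 := h ψ
  rw [BlocksCharsC.principalBlock_eq] at h1 h2
  exact Blocks.sameBlock_trans (Blocks.sameBlock_symm h1) h2

end CfsgLib.TwoBlockMathieu
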