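import Cfsg.Agent.TwoBlockMathieu.Values

/-!
# The finite case checks for M22 and M24
-/

set_option autoImplicit false

namespace CfsgLib.TwoBlockMathieu

/-- The integers from `-n` to `n`. -/
def span (n : ℕ) : List ℤ := (List.range (2 * n + 1)).map fun i : ℕ => (i : ℤ) - n

theorem mem_span {n : ℕ} {x : ℤ} (h1 : -(n : ℤ) ≤ x) (h2 : x ≤ n) : x ∈ span n := by
  rw [span, List.mem_map]
  refine ⟨(x + n).toNat, ?_, ?_⟩
  · rw [List.mem_range]; omega
  · omega

theorem mem_span_of_sq {n : ℕ} {x : ℤ} (h : x * x < ((n : ℤ) + 1) * ((n : ℤ) + 1)) : x ∈ span n := by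
  refine mem_span ?_ ?_ <;> nlinarith

theorem sq_le_pairBound (A : ℤ) (r : ℕ) : A * A ≤ pairBound A r := by
  rw [pairBound]; split_ifs <;> omega

/-- No case survives for M22. -/
def m22None (d : ℤ) : Bool :=
  (span 6).all fun a => (d - a) % 3 != 0 || (span 2).all fun b => (d - b) % 5 != 0 ||
    (span 5).all fun e => (2 * d - e) % 7 != 0 || (span 6).all fun f => (2 * d - f) % 11 != 0 ||
      d + 12320 * a + 88704 * b + 63360 * e + 40320 * f != 0 ||
      22 * d + 4 * 12320 * a + 2 * 88704 * b + 63360 * e != 0 ||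
      decide (887040 < 2 * d * d + 2 * 12320 * a * a + 2 * 88704 * b * b + 63360 * pairBound e 7 +
        40320 * pairBound f 11)

theorem m22None_all : ∀ j < 21, 32 * j ∣ 443520 → m22None ((32 * j : ℕ) : ℤ) = true := by
  decide +kernel

theorem m22_no_case {d : ℕ} (h32 : 32 ∣ d) (hdvd : d ∣ 443520) {a b e f : ℤ}
    (ha : 3 ∣ (d : ℤ) - a) (hb : 5 ∣ (d : ℤ) - b) (he : 7 ∣ 2 * (d : ℤ) - e)
    (hf : 11 ∣ 2 * (d : ℤ) - f)
    (h1 : (d : ℤ) + 12320 * a + 88704 * b + 63360 * e + 40320 * f = 0)
    (h2 : 22 * (d : ℤ) + 4 * 12320 * a + 2 * 88704 * b + 63360 * e = 0)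
    (hq : 2 * (d : ℤ) * d + 2 * 12320 * a * a + 2 * 88704 * b * b + 63360 * pairBound e 7 +
      40320 * pairBound f 11 ≤ 887040) : False := by
  obtain ⟨j, rfl⟩ := h32
  have se := sq_le_pairBound e 7
  have sf := sq_le_pairBound f 11
  have hj : j < 21 := by
    by_contra hge
    have : (21 : ℤ) ≤ j := by exact_mod_cast Nat.le_of_not_lt hge
    push_cast at hq
    nlinarith [mul_self_nonneg a, mul_self_nonneg b, mul_self_nonneg e, mul_self_nonneg f]
  have h := m22None_all j hj hdvd
  set d : ℤ := ((32 * j : ℕ) : ℤ)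
  have ma : a ∈ span 6 := mem_span_of_sq (by
    push_cast
    nlinarith [mul_self_nonneg d, mul_self_nonneg b, mul_self_nonneg e, mul_self_nonneg f])
  have mb : b ∈ span 2 := mem_span_of_sq (by
    push_cast
    nlinarith [mul_self_nonneg d, mul_self_nonneg a, mul_self_nonneg e, mul_self_nonneg f])
  have me : e ∈ span 5 := mem_span_of_sq (by
    push_cast
    nlinarith [mul_self_nonneg d, mul_self_nonneg a, mul_self_nonneg b, mul_self_nonneg f])
  have mf : f ∈ span 6 := mem_span_of_sq (by
    push_cast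
    nlinarith [mul_self_nonneg d, mul_self_nonneg a, mul_self_nonneg b, mul_self_nonneg e])
  simp only [m22None, List.all_eq_true, Bool.or_eq_true, bne_iff_ne, decide_eq_true_eq] at h
  have h3 := (h a ma).resolve_left (fun hc => hc (Int.emod_eq_zero_of_dvd ha)) b mb
  have h4 := (h3.resolve_left (fun hc => hc (Int.emod_eq_zero_of_dvd hb))) e me
  have h5 := (h4.resolve_left (fun hc => hc (Int.emod_eq_zero_of_dvd he))) f mf
  rcases h5 with ((h5 | h5) | h5) | h5
  exacts [h5 (Int.emod_eq_zero_of_dvd hf), h5 h1, h5 h2, absurd hq (not_le.2 h5)]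

/-- No case survives for M24. The two traces of order 15 and 21 are forced by the equations. -/
def m24None (d : ℤ) : Bool :=
  (span 6).all fun h => (2 * d - h) % 23 != 0 || (span 3).all fun f => (d - f) % 11 != 0 ||
    (span 9).all fun e => (2 * d - e) % 7 != 0 || (span 7).all fun c => (d - c) % 5 != 0 ||
      (span 22).all fun b => (d - b) % 3 != 0 || (span 32).all fun a => (d - a) % 3 != 0 ||
        let P := 24 * d + 6 * 226688 * a + 4 * 4080384 * c + 3 * 5829120 * e + 2 * 22256640 * f +
          10644480 * h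
        let y := -(P / 16321536)
        let L := d + 226688 * a + 485760 * b + 4080384 * c + 5829120 * e + 22256640 * f +
          16321536 * y + 10644480 * h
        let z := -(L / 11658240)
        P % 16321536 != 0 || L % 11658240 != 0 ||
          decide (489646080 < 2 * d * d + 2 * 226688 * a * a + 2 * 485760 * b * b +
            2 * 4080384 * c * c + 5829120 * pairBound e 7 + 2 * 22256640 * f * f +
            16321536 * (y * y) + 11658240 * (z * z) + 10644480 * pairBound h 23)

theorem m24None_all : ∀ j < 123, 128 * j ∣ 244823040 → m24None ((128 * j : ℕ) : ℤ) = true := by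
  decide +kernel

theorem m24_no_case {d : ℕ} (h128 : 128 ∣ d) (hdvd : d ∣ 244823040) {a b c e f h y z : ℤ}
    (ha : 3 ∣ (d : ℤ) - a) (hb : 3 ∣ (d : ℤ) - b) (hc : 5 ∣ (d : ℤ) - c)
    (he : 7 ∣ 2 * (d : ℤ) - e) (hf : 11 ∣ (d : ℤ) - f) (hh : 23 ∣ 2 * (d : ℤ) - h)
    (h1 : (d : ℤ) + 226688 * a + 485760 * b + 4080384 * c + 5829120 * e + 22256640 * f +
      16321536 * y + 11658240 * z + 10644480 * h = 0)
    (h2 : 24 * (d : ℤ) + 6 * 226688 * a + 4 * 4080384 * c + 3 * 5829120 * e + 2 * 22256640 * f +
      16321536 * y + 10644480 * h = 0)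
    (hq : 2 * (d : ℤ) * d + 2 * 226688 * a * a + 2 * 485760 * b * b + 2 * 4080384 * c * c +
      5829120 * pairBound e 7 + 2 * 22256640 * f * f + 16321536 * (y * y) + 11658240 * (z * z) +
      10644480 * pairBound h 23 ≤ 489646080) : False := by
  obtain ⟨j, rfl⟩ := h128
  have se := sq_le_pairBound e 7
  have sh := sq_le_pairBound h 23
  have hj : j < 123 := by
    by_contra hge
    have : (123 : ℤ) ≤ j := by exact_mod_cast Nat.le_of_not_lt hge
    push_cast at hq
    nlinarith [mul_self_nonneg a, mul_self_nonneg b, mul_self_nonneg c, mul_self_nonneg e,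
      mul_self_nonneg f, mul_self_nonneg h, mul_self_nonneg y, mul_self_nonneg z]
  have hall := m24None_all j hj hdvd
  set d : ℤ := ((128 * j : ℕ) : ℤ)
  have sd := mul_self_nonneg d
  have sa := mul_self_nonneg a
  have sb := mul_self_nonneg b
  have sc := mul_self_nonneg c
  have se' := mul_self_nonneg e
  have sf := mul_self_nonneg f
  have sh' := mul_self_nonneg h
  have sy := mul_self_nonneg y
  have sz := mul_self_nonneg z
  have ma : a ∈ span 32 := mem_span_of_sq (by push_cast; nlinarith)
  have mb : b ∈ span 22 := mem_span_of_sq (by push_cast; nlinarith)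
  have mc : c ∈ span 7 := mem_span_of_sq (by push_cast; nlinarith)
  have me : e ∈ span 9 := mem_span_of_sq (by push_cast; nlinarith)
  have mf : f ∈ span 3 := mem_span_of_sq (by push_cast; nlinarith)
  have mh : h ∈ span 6 := mem_span_of_sq (by push_cast; nlinarith)
  simp only [m24None, List.all_eq_true, Bool.or_eq_true, bne_iff_ne, decide_eq_true_eq] at hall
  have k1 := (hall h mh).resolve_left (fun w => w (Int.emod_eq_zero_of_dvd hh)) f mf
  have k2 := (k1.resolve_left (fun w => w (Int.emod_eq_zero_of_dvd hf))) e me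
  have k3 := (k2.resolve_left (fun w => w (Int.emod_eq_zero_of_dvd he))) c mc
  have k4 := (k3.resolve_left (fun w => w (Int.emod_eq_zero_of_dvd hc))) b mb
  have k5 := (k4.resolve_left (fun w => w (Int.emod_eq_zero_of_dvd hb))) a ma
  have k6 := k5.resolve_left (fun w => w (Int.emod_eq_zero_of_dvd ha))
  set P := 24 * d + 6 * 226688 * a + 4 * 4080384 * c + 3 * 5829120 * e + 2 * 22256640 * f +
    10644480 * h with hP
  have hy : P = -y * 16321536 := by rw [hP]; linarith
  rw [hy, Int.mul_emod_left, Int.mul_ediv_cancel _ (by norm_num), neg_neg] at k6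
  set L := d + 226688 * a + 485760 * b + 4080384 * c + 5829120 * e + 22256640 * f +
    16321536 * y + 10644480 * h with hL
  have hz : L = -z * 11658240 := by rw [hL]; linarith
  rw [hz, Int.mul_emod_left, Int.mul_ediv_cancel _ (by norm_num), neg_neg] at k6
  rcases k6 with (k6 | k6) | k6
  exacts [k6 rfl, k6 rfl, absurd hq (not_le.2 k6)]

end CfsgLib.TwoBlockMathieu
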