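import Cfsg.Agent.TwoBlockMathieu.M24Valid
import Cfsg.Agent.TwoBlockMathieu.Powers
import Cfsg.Agent.TwoBlockMathieu.Common
import Cfsg.Agent.TwoBlockMathieu.Finite
import Cfsg.Agent.Mathieu.M24Actions

/-! M24 has a single 2-block. -/

set_option autoImplicit false
set_option linter.unusedSectionVars false
set_option linter.style.haveILetI false

namespace CfsgLib.TwoBlockMathieu

open Cfsg CfsgLib CfsgLib.Mathieu
open scoped ComplexConjugate

namespace M24Data

theorem len : cert.cls.length = 12 := rfl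

/-- A class number. -/
def ix (i : Fin 12) : Fin cert.cls.length := Fin.cast len.symm i

theorem r_eq : ∀ i : Fin 12, cert.cls[ix i].r = ![3, 3, 5, 7, 7, 11, 15, 15, 21, 21, 23, 23] i := by
  decide +kernel

theorem f_eq : ∀ i : Fin 12, cert.cls[ix i].f = ![0, 6, 4, 3, 3, 2, 1, 1, 0, 0, 1, 1] i := by
  decide +kernel

theorem same_class_list : ∀ i j : Fin 12, cert.cls[ix j].r = cert.cls[ix i].r →
    cert.cls[ix j].f = cert.cls[ix i].f →
    j = i ∨ (i = 3 ∧ j = 4) ∨ (i = 10 ∧ j = 11) ∨
      (i ≠ 0 ∧ i ≠ 1 ∧ i ≠ 2 ∧ i ≠ 3 ∧ i ≠ 5 ∧ i ≠ 10) := by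
  decide +kernel

theorem mem_principalBlock {M : Ideal AlgInt} (hM : Cfsg.IsPModular 2 M)
    (χ : IrrCharacter M24) : χ ∈ Cfsg.principalBlock M M24 := by
  classical
  by_contra hχ
  haveI : Fintype M24 := Fintype.ofFinite _
  obtain ⟨d, hd0, hd⟩ := Characters.exists_degree_pos χ.2
  set x : Fin 12 → M24 := fun i => elt valid (ix i) with hx
  have hinv7 : x 4 = (x 3)⁻¹ := elt_eq_inv valid (by decide +kernel)
  have hinv15 : x 7 = (x 6)⁻¹ := elt_eq_inv valid (by decide +kernel)
  have hinv21 : x 9 = (x 8)⁻¹ := elt_eq_inv valid (by decide +kernel)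
  have hinv23 : x 11 = (x 10)⁻¹ := elt_eq_inv valid (by decide +kernel)
  have hidx : ∀ i : Fin 12, (Subgroup.centralizer ({x i} : Set M24)).index =
      ![485760, 226688, 4080384, 5829120, 5829120, 22256640, 16321536, 16321536, 11658240,
        11658240, 10644480, 10644480] i := fun i =>
    index_elt_eq valid (ix i) card_M24 (by clear * -; revert i; decide +kernel)
  have hfix : ∀ i : Fin 12, fixCount GolayPt (x i) = ![0, 6, 4, 3, 3, 2, 1, 1, 0, 0, 1, 1] i :=
    fun i => (fix_elt valid (ix i)).trans (f_eq i)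
  have hpow : ∀ i : Fin 12, (i = 0 ∨ i = 1 ∨ i = 2 ∨ i = 3 ∨ i = 5 ∨ i = 10) →
      ∀ k, 0 < k → k < cert.cls[ix i].r → cert.cls[ix i].r.Prime →
        IsConj (x i ^ k) (x i) ∨ ((i = 3 ∨ i = 10) ∧ IsConj (x i ^ k) (x i)⁻¹) := by
    intro i hi k h0 hk hp
    obtain ⟨j, hjr, hjf, hj⟩ := exists_isConj_pow valid (ix i)
      (Nat.Coprime.symm ((hp.coprime_iff_not_dvd).2 fun h => by
        have := Nat.le_of_dvd h0 h; omega))
    have hj' : IsConj (x i ^ k) (x (Fin.cast len j)) := hj
    rcases same_class_list i (Fin.cast len j) hjr hjf with h | ⟨h, h'⟩ | ⟨h, h'⟩ | h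
    · exact Or.inl (h ▸ hj')
    · refine Or.inr ⟨Or.inl h, ?_⟩
      rw [h', hinv7] at hj'
      subst h
      exact hj'
    · refine Or.inr ⟨Or.inr h, ?_⟩
      rw [h', hinv23] at hj'
      subst h
      exact hj'
    · obtain ⟨n0, n1, n2, n3, n5, n10⟩ := h
      rcases hi with hi | hi | hi | hi | hi | hi
      exacts [absurd hi n0, absurd hi n1, absurd hi n2, absurd hi n3, absurd hi n5, absurd hi n10]
  have hord : ∀ i : Fin 12, orderOf (x i) = ![3, 3, 5, 7, 7, 11, 15, 15, 21, 21, 23, 23] i :=
    fun i => (orderOf_elt valid (ix i)).trans (r_eq i)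
  have o0 : orderOf (x 0) = 3 := hord 0
  have o1 : orderOf (x 1) = 3 := hord 1
  have o2 : orderOf (x 2) = 5 := hord 2
  have o3 : orderOf (x 3) = 7 := hord 3
  have o5 : orderOf (x 5) = 11 := hord 5
  have o10 : orderOf (x 10) = 23 := hord 10
  obtain ⟨b, hb, hb3⟩ := exists_real_value (χ := χ) hd o0 (by norm_num) (by norm_num)
    fun k h0 hk => by
      rcases hpow 0 (by decide) k h0 (by rw [r_eq]; exact hk) (by rw [r_eq]; simp; norm_num)
        with h | ⟨h, -⟩
      exacts [h, absurd h (by decide)]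
  obtain ⟨a, ha, ha3⟩ := exists_real_value (χ := χ) hd o1 (by norm_num) (by norm_num)
    fun k h0 hk => by
      rcases hpow 1 (by decide) k h0 (by rw [r_eq]; exact hk) (by rw [r_eq]; simp; norm_num)
        with h | ⟨h, -⟩
      exacts [h, absurd h (by decide)]
  obtain ⟨c, hc, hc5⟩ := exists_real_value (χ := χ) hd o2 (by norm_num) (by norm_num)
    fun k h0 hk => by
      rcases hpow 2 (by decide) k h0 (by rw [r_eq]; exact hk) (by rw [r_eq]; simp; norm_num)
        with h | ⟨h, -⟩
      exacts [h, absurd h (by decide)]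
  obtain ⟨f, hf, hf11⟩ := exists_real_value (χ := χ) hd o5 (by norm_num) (by norm_num)
    fun k h0 hk => by
      rcases hpow 5 (by decide) k h0 (by rw [r_eq]; exact hk) (by rw [r_eq]; simp; norm_num)
        with h | ⟨h, -⟩
      exacts [h, absurd h (by decide)]
  obtain ⟨e, he, he7, heQ⟩ := exists_pair_value (χ := χ) hd o3 (by norm_num) (by norm_num)
    fun k h0 hk => by
      rcases hpow 3 (by decide) k h0 (by rw [r_eq]; exact hk) (by rw [r_eq]; simp; norm_num)
        with h | ⟨-, h⟩
      exacts [Or.inl h, Or.inr h]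
  obtain ⟨h23, hh, hh23, hhQ⟩ := exists_pair_value (χ := χ) hd o10 (by norm_num) (by norm_num)
    fun k h0 hk => by
      rcases hpow 10 (by decide) k h0 (by rw [r_eq]; exact hk) (by rw [r_eq]; simp; norm_num)
        with h | ⟨-, h⟩
      exacts [Or.inl h, Or.inr h]
  -- sums over the regular elements
  have hsplit : ∀ F : M24 → ℂ, (∀ u v, IsConj u v → F u = F v) →
      (∑ᶠ u ∈ {u : M24 | ¬ 2 ∣ orderOf u}, F u) = F 1 + (485760 * F (x 0) + 226688 * F (x 1) +
        4080384 * F (x 2) + 5829120 * F (x 3) + 5829120 * F (x 4) + 22256640 * F (x 5) +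
        16321536 * F (x 6) + 16321536 * F (x 7) + 11658240 * F (x 8) + 11658240 * F (x 9) +
        10644480 * F (x 10) + 10644480 * F (x 11)) := by
    intro F hF
    rw [finsum_odd_eq valid F hF, ← Equiv.sum_comp (finCongr len.symm) _]
    simp only [Fin.sum_univ_succ, Finset.univ_eq_empty, Finset.sum_empty, add_zero]
    have hx' : ∀ i, elt valid (finCongr len.symm i) = x i := fun i => rfl
    simp only [hx', hidx]
    simp only [add_assoc]
    rfl
  have hcf : ∀ u v, IsConj u v → (χ : M24 → ℂ) u = (χ : M24 → ℂ) v := fun u v h =>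
    Characters.classFunction_isConj (Characters.isClassFunction_of_isIrr χ.2) h
  have hfixconj : ∀ u v : M24, IsConj u v → fixCount GolayPt u = fixCount GolayPt v := by
    intro u v h
    obtain ⟨g, rfl⟩ := isConj_iff.1 h
    exact (fix_card_conj g.1 u.1).symm
  have hfix1 : fixCount GolayPt (1 : M24) = 24 := by
    simp [fixCount, ZMod.card]
  have hirr := isIrr_fixCount_sub_one (G := M24) GolayPt (some 1) (some 2) (by decide)
    fun a b c d hab hcd => by
      haveI := M24_isMultiplyPretransitive (k := 2) (by norm_num)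
      exact MulAction.is_two_pretransitive_iff.1 this hab hcd
  obtain ⟨hs1, hs2⟩ := sums_eq_zero hM hχ (fixCount GolayPt) hirr (by rw [hfix1]; decide)
    (by rw [hfix1]; norm_num)
  rw [hsplit _ hcf] at hs1
  rw [hsplit (fun u => (fixCount GolayPt u : ℂ) * (χ : M24 → ℂ) u)
    (fun u v h => by rw [hfixconj u v h, hcf u v h])] at hs2
  simp only [hfix, hfix1] at hs2
  simp only [Matrix.cons_val] at hs2
  rw [← hinv7] at he
  rw [← hinv23] at hh
  simp only [hd, ha, hb, hc, hf] at hs1 hs2
  push_cast at hs2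
  -- the traces of order 15 and 21 are rational
  obtain ⟨y, hy, hyQ⟩ := exists_trace_value χ (x 6)
    (q := -(24 * (d : ℚ) + 6 * 226688 * a + 4 * 4080384 * c + 3 * 5829120 * e + 2 * 22256640 * f +
      10644480 * h23) / 16321536) (by
      rw [← hinv15]
      push_cast
      rw [← he, ← hh, eq_div_iff (by norm_num)]
      linear_combination hs2)
  rw [← hinv15] at hy
  obtain ⟨z, hz, hzQ⟩ := exists_trace_value χ (x 8)
    (q := -((d : ℚ) + 226688 * a + 485760 * b + 4080384 * c + 5829120 * e + 22256640 * f +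
      16321536 * y + 10644480 * h23) / 11658240) (by
      rw [← hinv21]
      push_cast
      rw [← he, ← hh, ← hy, eq_div_iff (by norm_num)]
      linear_combination hs1)
  rw [← hinv21] at hz
  have e1 : (d : ℂ) + 226688 * a + 485760 * b + 4080384 * c + 5829120 * e + 22256640 * f +
      16321536 * y + 11658240 * z + 10644480 * h23 = 0 := by
    rw [← he, ← hh, ← hy, ← hz]; linear_combination hs1
  have e2 : 24 * (d : ℂ) + 6 * 226688 * a + 4 * 4080384 * c + 3 * 5829120 * e + 2 * 22256640 * f +
      16321536 * y + 10644480 * h23 = 0 := by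
    rw [← he, ← hh, ← hy]; linear_combination hs2
  have hq := sum_regular_normSq_le χ
  rw [hsplit (fun u => (Complex.normSq ((χ : M24 → ℂ) u) : ℂ))
    (fun u v h => by rw [hcf u v h]), card_M24, hinv7, hinv15, hinv21, hinv23] at hq
  simp only [conj_value, Complex.normSq_conj, hd, ha, hb, hc, hf, Complex.normSq_natCast,
    Complex.normSq_intCast, Complex.add_re, Complex.mul_re, Complex.ofReal_re, Complex.ofReal_im,
    Complex.re_ofNat, Complex.im_ofNat, mul_zero, sub_zero] at hq
  push_cast at hq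
  have hdvd : d ∣ 244823040 := by
    have := degree_dvd_card χ.2 hd
    rwa [card_M24] at this
  have h128 : 128 ∣ d := by
    refine two_pow_dvd_degree (v := 7) hM hχ hd fun g hg h1 => ?_
    obtain ⟨i, hi⟩ := exists_isConj_elt valid (g := g) (Nat.odd_iff.2 (by omega)) h1
    rw [← Characters.card_conjugates_eq_index, show {y // IsConj y g} = {y // IsConj y (elt valid i)}
      from congrArg _ (funext fun y => propext ⟨fun h => h.trans hi, fun h => h.trans hi.symm⟩),
      Characters.card_conjugates_eq_index]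
    obtain ⟨k, rfl⟩ : ∃ k, ix k = i := ⟨Fin.cast len i, Fin.ext rfl⟩
    rw [show (Subgroup.centralizer ({elt valid (ix k)} : Set M24)).index = _ from hidx k]
    clear hi
    revert k; clear * -; decide +kernel
  refine m24_no_case h128 hdvd (a := a) (b := b) (c := c) (e := e) (f := f) (h := h23) (y := y)
    (z := z) ha3 hb3 hc5 he7 hf11 hh23 (by exact_mod_cast e1) (by exact_mod_cast e2) ?_
  have hq' : (2 * (d : ℝ) * d + 2 * 226688 * a * a + 2 * 485760 * b * b + 2 * 4080384 * c * c +
      5829120 * pairBound e 7 + 2 * 22256640 * f * f + 16321536 * (y * y) + 11658240 * (z * z) +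
      10644480 * pairBound h23 23) ≤ 489646080 := by
    nlinarith [hq, heQ, hhQ, hyQ, hzQ]
  exact_mod_cast hq'

end M24Data

end CfsgLib.TwoBlockMathieu
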