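import Cfsg.Agent.TwoBlockMathieu.M22Valid
import Cfsg.Agent.TwoBlockMathieu.Powers
import Cfsg.Agent.TwoBlockMathieu.Common
import Cfsg.Agent.TwoBlockMathieu.Finite

/-! M22 has a single 2-block. -/

set_option autoImplicit false
set_option linter.unusedSectionVars false
set_option linter.style.haveILetI false

namespace CfsgLib.TwoBlockMathieu

open Cfsg CfsgLib CfsgLib.Mathieu
open scoped ComplexConjugate

namespace M22Data

theorem len : cert.cls.length = 6 := rfl

/-- A class number. -/
def ix (i : Fin 6) : Fin cert.cls.length := Fin.cast len.symm i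

/-- The 22 points. -/
abbrev Pts := {p : GolayPt // p ≠ none ∧ p ≠ some 0}

noncomputable instance : MulAction Spor.M22 Pts where
  smul g p := ⟨g.1 p.1, fun h => p.2.1 (g.1.injective (h.trans (mem_SporM22.1 g.2).1.2.symm)),
    fun h => p.2.2 (g.1.injective (h.trans (mem_SporM22.1 g.2).2.symm))⟩
  one_smul _ := Subtype.ext rfl
  mul_smul _ _ _ := Subtype.ext rfl

theorem fixCount_add_two (g : Spor.M22) :
    fixCount Pts g + 2 = (Finset.univ.filter fun p => g.1 p = p).card := by
  have hset : (Finset.univ.filter fun p => g.1 p = p) =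
      insert (none : GolayPt) (insert (some 0)
        ((Finset.univ.filter fun p : Pts => g • p = p).image Subtype.val)) := by
    ext p
    rw [Finset.mem_filter, Finset.mem_insert, Finset.mem_insert, Finset.mem_image]
    constructor
    · rintro ⟨-, hp⟩
      by_cases h1 : p = none
      · exact Or.inl h1
      by_cases h2 : p = some 0
      · exact Or.inr (Or.inl h2)
      exact Or.inr (Or.inr ⟨⟨p, h1, h2⟩, Finset.mem_filter.2 ⟨Finset.mem_univ _, Subtype.ext hp⟩, rfl⟩)
    · intro h
      refine ⟨Finset.mem_univ _, ?_⟩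
      rcases h with rfl | rfl | ⟨q, hq, rfl⟩
      exacts [(mem_SporM22.1 g.2).1.2, (mem_SporM22.1 g.2).2,
        congrArg Subtype.val (Finset.mem_filter.1 hq).2]
  rw [hset, Finset.card_insert_of_notMem, Finset.card_insert_of_notMem,
    Finset.card_image_of_injective _ Subtype.val_injective, fixCount]
  · simp only [Finset.mem_image, not_exists, not_and]
    exact fun q _ h => q.2.2 h
  · simp only [Finset.mem_insert, Finset.mem_image, not_or, not_exists, not_and]
    exact ⟨by simp, fun q _ h => q.2.1 h⟩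

theorem pts_two_transitive (a b c d : Pts) (hab : a ≠ b) (hcd : c ≠ d) :
    ∃ g : Spor.M22, g • a = c ∧ g • b = d := by
  haveI := M24_isMultiplyPretransitive (k := 4) (by norm_num)
  have hinj : ∀ u v : Pts, u ≠ v →
      Function.Injective ![(none : GolayPt), some 0, u.1, v.1] := by
    intro u v huv i j
    have h1 := u.2.1; have h2 := u.2.2; have h3 := v.2.1; have h4 := v.2.2
    have h5 : u.1 ≠ v.1 := fun h => huv (Subtype.ext h)
    fin_cases i <;> fin_cases j <;> simp [h1, h2, h3, h4, h5, h1.symm, h2.symm, h3.symm, h4.symm,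
      h5.symm]
  obtain ⟨g, hg⟩ := MulAction.isMultiplyPretransitive_iff.1 this
    ⟨_, hinj a b hab⟩ ⟨_, hinj c d hcd⟩
  have h0 := DFunLike.congr_fun hg 0
  have h1 := DFunLike.congr_fun hg 1
  exact ⟨⟨g.1, mem_SporM22.2 ⟨⟨g.2, h0⟩, h1⟩⟩, Subtype.ext (DFunLike.congr_fun hg 2),
    Subtype.ext (DFunLike.congr_fun hg 3)⟩

theorem same_class_list : ∀ i j : Fin 6, cert.cls[ix j].r = cert.cls[ix i].r →
    cert.cls[ix j].f = cert.cls[ix i].f →
    j = i ∨ (i = 2 ∧ j = 3) ∨ (i = 3 ∧ j = 2) ∨ (i = 4 ∧ j = 5) ∨ (i = 5 ∧ j = 4) := by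
  decide +kernel

theorem fix_eq : ∀ i : Fin 6, cert.cls[ix i].f = ![4, 2, 1, 1, 0, 0] i + 2 := by decide +kernel

theorem r_eq : ∀ i : Fin 6, cert.cls[ix i].r = ![3, 5, 7, 7, 11, 11] i := by decide +kernel

theorem mem_principalBlock {M : Ideal AlgInt} (hM : Cfsg.IsPModular 2 M)
    (χ : IrrCharacter Spor.M22) : χ ∈ Cfsg.principalBlock M Spor.M22 := by
  classical
  by_contra hχ
  haveI : Fintype Spor.M22 := Fintype.ofFinite _
  obtain ⟨d, hd0, hd⟩ := Characters.exists_degree_pos χ.2
  set x : Fin 6 → Spor.M22 := fun i => elt valid (ix i) with hx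
  have hinv7 : x 3 = (x 2)⁻¹ := elt_eq_inv valid (by decide +kernel)
  have hinv11 : x 5 = (x 4)⁻¹ := elt_eq_inv valid (by decide +kernel)
  have hidx : ∀ i : Fin 6, (Subgroup.centralizer ({x i} : Set Spor.M22)).index =
      ![12320, 88704, 63360, 63360, 40320, 40320] i := fun i =>
    index_elt_eq valid (ix i) card_SporM22 (by clear * -; revert i; decide +kernel)
  have hfix : ∀ i : Fin 6, fixCount Pts (x i) = ![4, 2, 1, 1, 0, 0] i := by
    intro i
    have h := fixCount_add_two (x i)
    rw [hx] at h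
    rw [fix_elt valid (ix i), fix_eq i] at h
    exact Nat.add_right_cancel h
  have hpow : ∀ i : Fin 6, ∀ k, 0 < k → k < cert.cls[ix i].r → cert.cls[ix i].r.Prime →
      IsConj (x i ^ k) (x i) ∨ ((i = 2 ∨ i = 4) ∧ IsConj (x i ^ k) (x i)⁻¹) ∨ (i = 3 ∨ i = 5) := by
    intro i k h0 hk hp
    obtain ⟨j, hjr, hjf, hj⟩ := exists_isConj_pow valid (ix i)
      (Nat.Coprime.symm ((hp.coprime_iff_not_dvd).2 fun h => by
        have := Nat.le_of_dvd h0 h; omega))
    have hj' : IsConj (x i ^ k) (x (Fin.cast len j)) := hj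
    rcases same_class_list i (Fin.cast len j) hjr hjf with h | ⟨h, h'⟩ | h | ⟨h, h'⟩ | h
    · exact Or.inl (h ▸ hj')
    · refine Or.inr (Or.inl ⟨Or.inl h, ?_⟩)
      rw [h', hinv7] at hj'
      subst h
      exact hj'
    · exact Or.inr (Or.inr (Or.inl h.1))
    · refine Or.inr (Or.inl ⟨Or.inr h, ?_⟩)
      rw [h', hinv11] at hj'
      subst h
      exact hj'
    · exact Or.inr (Or.inr (Or.inr h.1))
  have hord : ∀ i : Fin 6, orderOf (x i) = ![3, 5, 7, 7, 11, 11] i := fun i =>
    (orderOf_elt valid (ix i)).trans (r_eq i)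
  have o0 : orderOf (x 0) = 3 := hord 0
  have o1 : orderOf (x 1) = 5 := hord 1
  have o2 : orderOf (x 2) = 7 := hord 2
  have o4 : orderOf (x 4) = 11 := hord 4
  obtain ⟨a, ha, ha3⟩ := exists_real_value (χ := χ) hd o0 (by norm_num) (by norm_num)
    fun k h0 hk => by
      rcases hpow 0 k h0 (by rw [r_eq]; exact hk) (by rw [r_eq]; simp; norm_num) with h | ⟨h, -⟩ | h
      exacts [h, absurd h (by decide), absurd h (by decide)]
  obtain ⟨b, hb, hb5⟩ := exists_real_value (χ := χ) hd o1 (by norm_num) (by norm_num)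
    fun k h0 hk => by
      rcases hpow 1 k h0 (by rw [r_eq]; exact hk) (by rw [r_eq]; simp; norm_num) with h | ⟨h, -⟩ | h
      exacts [h, absurd h (by decide), absurd h (by decide)]
  obtain ⟨e, he, he7, heQ⟩ := exists_pair_value (χ := χ) hd o2 (by norm_num) (by norm_num)
    fun k h0 hk => by
      rcases hpow 2 k h0 (by rw [r_eq]; exact hk) (by rw [r_eq]; simp; norm_num) with h | ⟨-, h⟩ | h
      exacts [Or.inl h, Or.inr h, absurd h (by decide)]
  obtain ⟨f, hf, hf11, hfQ⟩ := exists_pair_value (χ := χ) hd o4 (by norm_num) (by norm_num)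
    fun k h0 hk => by
      rcases hpow 4 k h0 (by rw [r_eq]; exact hk) (by rw [r_eq]; simp; norm_num) with h | ⟨-, h⟩ | h
      exacts [Or.inl h, Or.inr h, absurd h (by decide)]
  -- sums over the regular elements
  have hsplit : ∀ F : Spor.M22 → ℂ, (∀ u v, IsConj u v → F u = F v) →
      (∑ᶠ u ∈ {u : Spor.M22 | ¬ 2 ∣ orderOf u}, F u) = F 1 + (12320 * F (x 0) + 88704 * F (x 1) +
        63360 * F (x 2) + 63360 * F (x 2)⁻¹ + 40320 * F (x 4) + 40320 * F (x 4)⁻¹) := by
    intro F hF
    rw [finsum_odd_eq valid F hF, ← Equiv.sum_comp (finCongr len.symm) _, Fin.sum_univ_six,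
      ← hinv7, ← hinv11]
    have e : ∀ i, finCongr len.symm i = ix i := fun i => rfl
    simp only [e]
    rw [show (Subgroup.centralizer ({elt valid (ix 0)} : Set Spor.M22)).index = _ from hidx 0,
      show (Subgroup.centralizer ({elt valid (ix 1)} : Set Spor.M22)).index = _ from hidx 1,
      show (Subgroup.centralizer ({elt valid (ix 2)} : Set Spor.M22)).index = _ from hidx 2,
      show (Subgroup.centralizer ({elt valid (ix 3)} : Set Spor.M22)).index = _ from hidx 3,
      show (Subgroup.centralizer ({elt valid (ix 4)} : Set Spor.M22)).index = _ from hidx 4,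
      show (Subgroup.centralizer ({elt valid (ix 5)} : Set Spor.M22)).index = _ from hidx 5]
    simp [hx]
  have hcf : ∀ u v, IsConj u v → (χ : Spor.M22 → ℂ) u = (χ : Spor.M22 → ℂ) v := fun u v h =>
    Characters.classFunction_isConj (Characters.isClassFunction_of_isIrr χ.2) h
  have hfixconj : ∀ u v : Spor.M22, IsConj u v → fixCount Pts u = fixCount Pts v := by
    intro u v h
    obtain ⟨c, rfl⟩ := isConj_iff.1 h
    have h1 := fixCount_add_two u
    have h2 := fixCount_add_two (c * u * c⁻¹)
    have h3 : (Finset.univ.filter fun p => (c * u * c⁻¹).1 p = p).card =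
        (Finset.univ.filter fun p => u.1 p = p).card := fix_card_conj c.1 u.1
    omega
  have hfix1 : fixCount Pts (1 : Spor.M22) = 22 := by
    have h := fixCount_add_two 1
    have : (Finset.univ.filter fun p : GolayPt => (1 : Spor.M22).1 p = p).card = 24 := by
      simp [ZMod.card]
    omega
  have hirr := isIrr_fixCount_sub_one (G := Spor.M22) Pts ⟨some 1, by decide⟩ ⟨some 2, by decide⟩
    (by decide) pts_two_transitive
  obtain ⟨hs1, hs2⟩ := sums_eq_zero hM hχ (fixCount Pts) hirr (by rw [hfix1]; decide)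
    (by rw [hfix1]; norm_num)
  rw [hsplit _ hcf] at hs1
  rw [hsplit (fun u => (fixCount Pts u : ℂ) * (χ : Spor.M22 → ℂ) u)
    (fun u v h => by rw [hfixconj u v h, hcf u v h]), ← hinv7, ← hinv11] at hs2
  simp only [hfix, hfix1] at hs2
  rw [← hinv7, ← hinv11] at hs1
  rw [← hinv7] at he
  rw [← hinv11] at hf
  simp only [hd, ha, hb] at hs1 hs2
  have e1 : (d : ℂ) + 12320 * a + 88704 * b + 63360 * e + 40320 * f = 0 := by
    rw [← he, ← hf]; linear_combination hs1
  have e2 : 22 * (d : ℂ) + 4 * 12320 * a + 2 * 88704 * b + 63360 * e = 0 := by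
    rw [← he]
    simp only [Matrix.cons_val] at hs2
    push_cast at hs2 ⊢
    linear_combination hs2
  have hq := sum_regular_normSq_le χ
  rw [hsplit (fun u => (Complex.normSq ((χ : Spor.M22 → ℂ) u) : ℂ))
    (fun u v h => by rw [hcf u v h]), card_SporM22] at hq
  simp only [conj_value, Complex.normSq_conj, hd, ha, hb, Complex.normSq_natCast,
    Complex.normSq_intCast, Complex.add_re, Complex.mul_re, Complex.ofReal_re, Complex.ofReal_im,
    Complex.re_ofNat, Complex.im_ofNat, mul_zero, sub_zero] at hq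
  have hdvd : d ∣ 443520 := by
    have := degree_dvd_card χ.2 hd
    rwa [card_SporM22] at this
  have h32 : 32 ∣ d := by
    refine two_pow_dvd_degree (v := 5) hM hχ hd fun g hg h1 => ?_
    obtain ⟨i, hi⟩ := exists_isConj_elt valid (g := g) (Nat.odd_iff.2 (by omega)) h1
    rw [← Characters.card_conjugates_eq_index, show {y // IsConj y g} = {y // IsConj y (elt valid i)}
      from congrArg _ (funext fun y => propext ⟨fun h => h.trans hi, fun h => h.trans hi.symm⟩),
      Characters.card_conjugates_eq_index]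
    obtain ⟨k, rfl⟩ : ∃ k, ix k = i := ⟨Fin.cast len i, Fin.ext rfl⟩
    rw [show (Subgroup.centralizer ({elt valid (ix k)} : Set Spor.M22)).index = _ from hidx k]
    clear hi
    revert k; clear * -; decide +kernel
  refine m22_no_case h32 hdvd ha3 hb5 he7 hf11 (by exact_mod_cast e1) (by exact_mod_cast e2) ?_
  have hq' : (2 * (d : ℝ) * d + 2 * 12320 * a * a + 2 * 88704 * b * b + 63360 * pairBound e 7 +
      40320 * pairBound f 11) ≤ 887040 := by
    push_cast at hq
    nlinarith [hq, heQ, hfQ]
  exact_mod_cast hq'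

end M22Data

end CfsgLib.TwoBlockMathieu
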