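import Cfsg.Agent.SporadicOut.MathieuGlue
import Cfsg.Agent.SporadicOut.NormEnum
import Cfsg.Agent.Characters.Integrality
import Cfsg.Agent.Characters.RepBasic
import Mathlib.GroupTheory.Sylow
import Mathlib.GroupTheory.PGroup

/-!
# Classes of elements of odd order in groups of permutations of the 24 points

A certificate lists representatives of the classes of nontrivial elements of odd order, each with
the exact list of its centraliser.
-/

set_option autoImplicit false
set_option linter.unusedSectionVars false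
set_option linter.style.haveILetI false

namespace CfsgLib.TwoBlockMathieu

open Cfsg CfsgLib.Mathieu CfsgLib.Schur.Pc CfsgLib.SporadicOut

/-- A representative table, its order, fixed point number, search levels, centraliser. The bound
on the centraliser comes from base points `pre` (with cycle lengths), the search along `levT` and
the resulting list `base`. -/
structure Cls where
  a : ℕ
  r : ℕ
  f : ℕ
  lev : List Level
  L : List ℕ
  pre : List (ℕ × ℕ)
  levT : List Level
  base : List ℕ

/-- Evidence that an element has even order, or is conjugate to a representative. -/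
structure EltCert where
  t : ℕ
  n : ℕ
  m : ℕ
  i : ℕ
  c : ℕ

/-- The certificate. -/
structure ClassCert where
  fixes : List ℕ
  frozen : List (ℕ × ℕ)
  cls : List Cls
  primes : List (ℕ × List EltCert)
  three : List EltCert

/-- `t` to the power `n` is the identity. -/
def powId (t n : ℕ) : Bool := allBelow 24 fun i => iterApp t n i == i

/-- Two products of tables agree. -/
def prodEq (a b a' b' : ℕ) : Bool := allBelow 24 fun i => app a (app b i) == app a' (app b' i)

/-- Number of fixed points. -/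
def fixT (t : ℕ) : ℕ := ((List.range 24).filter fun i => app t i == i).length

/-- The table with the same first 24 entries and nothing else. -/
def normT (t : ℕ) : ℕ := ((List.range 24).map (app t)).foldr (fun x acc => x + 256 * acc) 0

/-- Strictly increasing. -/
def sortedLt : List ℕ → Bool
  | a :: b :: l => Nat.blt a b && sortedLt (b :: l)
  | _ => true

/-- Cycles of `a` carried identically. -/
def asgOf (a : ℕ) : List (ℕ × ℕ) → List (ℕ × ℕ)
  | [] => []
  | q :: rest => orbitPairs a 1 q.1 q.1 q.2 ++ asgOf a rest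

/-- How many images are open to the point `q` when `dom` is carried identically. -/
def candCount (a dom q : ℕ) : ℕ :=
  ((List.range 24).filter fun i =>
    !dom.testBit i && ((app a i == i) == (app a q == q))).length

/-- The bound along a list of base points. -/
def stabBound (a b : ℕ) : List (ℕ × ℕ) → List (ℕ × ℕ) → ℕ
  | _, [] => b
  | done, q :: rest => candCount a (domMask (asgOf a done)) q.1 * stabBound a b (q :: done) rest

/-- Every base point is new. -/
def preOK (a : ℕ) : List (ℕ × ℕ) → List (ℕ × ℕ) → Bool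
  | _, [] => true
  | done, q :: rest => decide (q.1 < 24) && !(domMask (asgOf a done)).testBit q.1 &&
      preOK a (q :: done) rest

/-- The checks on one representative. -/
def clsOK (inH : ℕ → Bool) (fixes : List ℕ) (frozen : List (ℕ × ℕ)) (C : Cls) : Bool :=
  inH C.a && powId C.a C.r &&
    allBelow C.r (fun j => j == 0 || !powId C.a j) && decide (C.r % 2 = 1 ∧ 1 < C.r) &&
    fixT C.a == C.f && sortedLt C.L && C.L.all (fun t => normT t == t && inH t && prodEq t C.a C.a t) &&
    (preOK C.a frozen C.pre && stabBound C.a C.base.length frozen C.pre == C.L.length) &&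
    (levelsOK fixes C.a C.levT (domMask (asgOf C.a (C.pre.reverse ++ frozen))) &&
      search C.a 1 C.base C.levT (asgOf C.a (C.pre.reverse ++ frozen)))

/-- The check on one element. -/
def eltOK (inH : ℕ → Bool) (cls : List Cls) (E : EltCert) : Bool :=
  powId E.t 1 ||
    match cls[E.i]? with
    | some C => inH E.c && prodEq E.c E.t C.a E.c
    | none => powId E.t E.n && !powId E.t E.m && decide (E.n ∣ E.m * 1024)

/-- Two representatives are not conjugate. -/
def distinctOK (fixes : List ℕ) (C D : Cls) : Bool :=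
  C.r != D.r || C.f != D.f ||
    (allBelow 24 (fun i => app D.a i == iterApp C.a (C.r - 1) i) &&
      levelsOK fixes C.a C.lev 0 && search C.a (C.r - 1) [] C.lev [])

/-- All the checks. -/
def ClassCert.ok (D : ClassCert) (inH : ℕ → Bool) : Bool :=
  (D.cls.all (clsOK inH D.fixes D.frozen) && D.frozen.all (fun q => decide (q.1 < 24))) &&
    (List.range D.cls.length).all (fun j => (List.range j).all fun i =>
      match D.cls[i]?, D.cls[j]? with
      | some A, some B => distinctOK D.fixes A B
      | _, _ => false) &&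
    D.primes.all (fun P =>
      match D.cls[P.1]? with
      | some C => P.2.map EltCert.t == C.L && P.2.all (eltOK inH D.cls)
      | none => false) &&
    D.three.all (fun E => normT E.t == E.t && inH E.t && eltOK inH D.cls E) && sortedLt (D.three.map EltCert.t) &&
    D.three.any (fun E => powId E.t 1) &&
    D.three.all (fun A => D.three.all fun B => D.three.any fun C =>
      allBelow 24 fun i => app C.t i == app A.t (app B.t i))

section Tables

variable {σ τ σ' τ' : Equiv.Perm GolayPt} {a b a' b' : ℕ}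

theorem powId_iff (ha : Rep enc σ a) (n : ℕ) : powId a n = true ↔ σ ^ n = 1 := by
  simp only [powId, allBelow_iff, beq_iff_eq]
  constructor
  · intro h
    refine Equiv.ext fun p => idx_injective ?_
    rw [← iterApp_eq ha p n]
    exact h _ (idx_lt p)
  · intro h i hi
    have := iterApp_eq ha (pt i) n
    rw [idx_pt hi] at this
    rw [this, h, Equiv.Perm.one_apply, idx_pt hi]

theorem mul_eq_of_prodEq (ha : Rep enc σ a) (hb : Rep enc τ b) (ha' : Rep enc σ' a')
    (hb' : Rep enc τ' b') (h : prodEq a b a' b' = true) : σ * τ = σ' * τ' := by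
  simp only [prodEq, allBelow_iff, beq_iff_eq] at h
  refine Equiv.ext fun p => enc.injective (Fin.ext ?_)
  have := h _ (enc p).isLt
  rw [hb p, hb' p, ha, ha'] at this
  exact this

theorem fix_card (ha : Rep enc σ a) :
    (Finset.univ.filter fun p => σ p = p).card = fixT a := by
  rw [fixT, ← List.toFinset_card_of_nodup (List.nodup_range.filter _)]
  refine Finset.card_bij (fun p _ => idx p) (fun p hp => ?_) (fun p _ q _ h => idx_injective h)
    fun i hi => ?_
  · simp only [Finset.mem_filter, Finset.mem_univ, true_and] at hp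
    simp only [List.mem_toFinset, List.mem_filter, List.mem_range, beq_iff_eq]
    refine ⟨idx_lt p, ?_⟩
    have := ha p
    rw [hp] at this
    exact this
  · simp only [List.mem_toFinset, List.mem_filter, List.mem_range, beq_iff_eq] at hi
    refine ⟨pt i, Finset.mem_filter.2 ⟨Finset.mem_univ _, ha.apply_eq enc ?_⟩, idx_pt hi.1⟩
    change app a (idx (pt i)) = idx (pt i)
    rw [idx_pt hi.1, hi.2]

theorem fix_card_conj (g σ : Equiv.Perm GolayPt) :
    (Finset.univ.filter fun p => (g * σ * g⁻¹) p = p).card =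
      (Finset.univ.filter fun p => σ p = p).card := by
  refine Finset.card_equiv g⁻¹ fun p => ?_
  rw [Finset.mem_filter, Finset.mem_filter]
  simp only [Finset.mem_univ, true_and, Equiv.Perm.mul_apply]
  exact ⟨fun h => g.injective (h.trans (perm_apply_inv g p).symm),
    fun h => by rw [h, perm_apply_inv]⟩

theorem table_unique (ha : Rep enc σ a) (hb : Rep enc σ b) (na : normT a = a) (nb : normT b = b) :
    a = b := by
  have h : (List.range 24).map (app a) = (List.range 24).map (app b) := by
    refine List.map_congr_left fun i hi => ?_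
    rw [List.mem_range] at hi
    have h1 := ha (pt i)
    have h2 := hb (pt i)
    rw [show (enc (pt i)).val = i from idx_pt hi] at h1 h2
    rw [h1, h2]
  exact na.symm.trans ((congrArg (fun l => List.foldr (fun x acc => x + 256 * acc) 0 l) h).trans nb)

theorem pairwise_of_sortedLt : ∀ {l : List ℕ}, sortedLt l = true → l.Pairwise (· < ·)
  | [], _ => List.Pairwise.nil
  | [_], _ => List.pairwise_singleton _ _
  | x :: y :: l, h => by
    simp only [sortedLt, Bool.and_eq_true, Nat.blt_eq] at h
    have ih := pairwise_of_sortedLt h.2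
    refine List.pairwise_cons.2 ⟨fun z hz => ?_, ih⟩
    rcases List.mem_cons.1 hz with rfl | hz
    · exact h.1
    · exact h.1.trans ((List.pairwise_cons.1 ih).1 z hz)

theorem nodup_of_sortedLt {l : List ℕ} (h : sortedLt l = true) : l.Nodup :=
  (pairwise_of_sortedLt h).imp fun h => Nat.ne_of_lt h

end Tables

/-- Hypotheses shared by the results below. -/
structure ClassCert.Valid (D : ClassCert) (inH : ℕ → Bool) (H : Subgroup (Equiv.Perm GolayPt)) :
    Prop where
  le : H ≤ M24
  sound : ∀ {t : ℕ}, inH t = true → InGroup enc H t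
  frozen : ∀ g ∈ H, ∀ q ∈ D.frozen, g (pt q.1) = pt q.1
  fix : ∀ g ∈ H, ∀ W ∈ D.fixes, (setOf24 W).image g = setOf24 W ∧ W < 2 ^ 24
  ok : D.ok inH = true
  odd_primes : ∀ p : ℕ, p.Prime → p ∣ Nat.card H → p = 2 ∨ p = 3 ∨
    ∃ P ∈ D.primes, ∃ C, D.cls[P.1]? = some C ∧ C.r = p ∧ ¬ p ^ 2 ∣ Nat.card H
  sylow_three : D.three.length = 3 ^ (Nat.card H).factorization 3

variable {D : ClassCert} {inH : ℕ → Bool} {H : Subgroup (Equiv.Perm GolayPt)}
variable (hD : D.Valid inH H)

include hD

theorem clsOK_get (i : Fin D.cls.length) : clsOK inH D.fixes D.frozen D.cls[i] = true := by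
  have h := hD.ok
  simp only [ClassCert.ok, Bool.and_eq_true, List.all_eq_true] at h
  exact h.1.1.1.1.1.1.1 _ (List.getElem_mem _)

theorem exists_elt (i : Fin D.cls.length) : ∃ g : H, Rep enc g.1 D.cls[i].a := by
  have h := clsOK_get hD i
  simp only [clsOK, Bool.and_eq_true] at h
  obtain ⟨σ, hσ, r⟩ := hD.sound h.1.1.1.1.1.1.1.1
  exact ⟨⟨σ, hσ⟩, r⟩

/-- The representative of the `i`-th class. -/
noncomputable def elt (i : Fin D.cls.length) : H := (exists_elt hD i).choose

theorem rep_elt (i : Fin D.cls.length) : Rep enc (elt hD i).1 D.cls[i].a :=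
  (exists_elt hD i).choose_spec

theorem orderOf_elt (i : Fin D.cls.length) : orderOf (elt hD i) = D.cls[i].r := by
  have h := clsOK_get hD i
  simp only [clsOK, Bool.and_eq_true, allBelow_iff, Bool.or_eq_true, beq_iff_eq, Bool.not_eq_true',
    decide_eq_true_eq] at h
  obtain ⟨⟨⟨⟨⟨⟨⟨⟨-, hr⟩, hj⟩, hodd, hone⟩, -⟩, -⟩, -⟩, -⟩, -⟩ := h
  rw [← Subgroup.orderOf_coe]
  refine (orderOf_eq_iff (by omega)).2 ⟨(powId_iff (rep_elt hD i) _).1 hr, fun j hjr hj0 hp => ?_⟩
  have := (hj j hjr).resolve_left (by omega)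
  rw [(powId_iff (rep_elt hD i) j).2 hp] at this
  exact Bool.noConfusion this

theorem odd_orderOf_elt (i : Fin D.cls.length) : Odd (orderOf (elt hD i)) ∧ elt hD i ≠ 1 := by
  have h := clsOK_get hD i
  simp only [clsOK, Bool.and_eq_true, decide_eq_true_eq] at h
  obtain ⟨⟨⟨⟨⟨⟨-, hodd, hone⟩, -⟩, -⟩, -⟩, -⟩, -⟩ := h
  refine ⟨by rw [orderOf_elt hD i, Nat.odd_iff]; exact hodd, fun h1 => ?_⟩
  have := orderOf_elt hD i
  rw [h1, orderOf_one] at this
  omega

theorem fix_elt (i : Fin D.cls.length) :
    (Finset.univ.filter fun p => (elt hD i).1 p = p).card = D.cls[i].f := by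
  have h := clsOK_get hD i
  simp only [clsOK, Bool.and_eq_true, beq_iff_eq] at h
  rw [fix_card (rep_elt hD i), h.1.1.1.1.2]

omit hD in
theorem orbitPairs_diag (a r : ℕ) : ∀ len, ∀ q ∈ orbitPairs a 1 r r len, q.2 = q.1
  | 0 => by simp [orbitPairs]
  | j + 1 => by
    intro q hq
    rcases List.mem_cons.1 hq with rfl | hq
    · simp
    · exact orbitPairs_diag a r j q hq

omit hD in
theorem asgOf_diag (a : ℕ) : ∀ l : List (ℕ × ℕ), ∀ q ∈ asgOf a l, q.2 = q.1
  | [] => by simp [asgOf]
  | x :: l => fun q hq => (List.mem_append.1 hq).elim (orbitPairs_diag a x.1 x.2 q) (asgOf_diag a l q)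

omit hD in
theorem agrees_asgOf {a : ℕ} {σ g : Equiv.Perm GolayPt} (ha : Rep enc σ a) (hg : g * σ = σ * g) :
    ∀ l : List (ℕ × ℕ), (∀ q ∈ l, q.1 < 24 ∧ g (pt q.1) = pt q.1) → Agrees g (asgOf a l)
  | [], _ => by simp [asgOf, Agrees]
  | x :: l, h => by
    intro q hq
    obtain ⟨h1, h2⟩ := h x List.mem_cons_self
    rcases List.mem_append.1 hq with hq | hq
    · exact agrees_orbitPairs (k := 1) ha (by rwa [pow_one]) h1 (by rw [h2, idx_pt h1]) x.2 q hq
    · exact agrees_asgOf ha hg l (fun y hy => h y (List.mem_cons_of_mem _ hy)) q hq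

/-- The elements of `H` commuting with a representative and fixing some points. -/
noncomputable def fixedCentralizer (i : Fin D.cls.length) (done : List (ℕ × ℕ)) : Finset H := by
  classical
  exact Finset.univ.filter fun g => g * elt hD i = elt hD i * g ∧
    ∀ q ∈ done, g.1 (pt q.1) = pt q.1

theorem card_fixedCentralizer_le (i : Fin D.cls.length) :
    ∀ (rest done : List (ℕ × ℕ)), (∀ q ∈ done, q.1 < 24) → preOK D.cls[i].a done rest = true →
      (fixedCentralizer hD i (rest.reverse ++ done)).card ≤ D.cls[i].base.length →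
      (fixedCentralizer hD i done).card ≤
        stabBound D.cls[i].a D.cls[i].base.length done rest
  | [], done, _, _, hb => by simpa [stabBound] using hb
  | q :: rest, done, hdone, hok, hb => by
    classical
    simp only [preOK, Bool.and_eq_true, decide_eq_true_eq, Bool.not_eq_true'] at hok
    obtain ⟨⟨hq, hnew⟩, hrest⟩ := hok
    have ih := card_fixedCentralizer_le i rest (q :: done)
      (fun x hx => (List.mem_cons.1 hx).elim (fun h => h ▸ hq) (hdone x)) hrest
      (by simpa [List.reverse_cons, List.append_assoc] using hb)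
    set S := fixedCentralizer hD i done with hS
    rw [stabBound]
    refine le_trans ?_ (Nat.mul_le_mul_left _ ih)
    rw [mul_comm]
    have himg : (S.image fun g => idx (g.1 (pt q.1))) ⊆ ((List.range 24).filter fun j =>
        !(domMask (asgOf D.cls[i].a done)).testBit j &&
          ((app D.cls[i].a j == j) == (app D.cls[i].a q.1 == q.1))).toFinset := by
      intro j hj
      obtain ⟨g, hg, rfl⟩ := Finset.mem_image.1 hj
      simp only [hS, fixedCentralizer, Finset.mem_filter] at hg
      obtain ⟨-, hcomm, hfix⟩ := hg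
      have hcomm' : g.1 * (elt hD i).1 = (elt hD i).1 * g.1 := congrArg Subtype.val hcomm
      have hr := rep_elt hD i
      simp only [List.mem_toFinset, List.mem_filter, List.mem_range, Bool.and_eq_true,
        Bool.not_eq_true', beq_iff_eq]
      refine ⟨idx_lt _, ?_, ?_⟩
      · by_contra hd
        rw [Bool.not_eq_false, testBit_domMask] at hd
        obtain ⟨x, hx, hxe⟩ := hd
        obtain ⟨-, h2⟩ := agrees_asgOf hr hcomm' done (fun y hy => ⟨hdone y hy, hfix y hy⟩) x hx
        rw [asgOf_diag _ _ x hx, hxe, pt_idx] at h2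
        have h3 : g.1 (pt q.1) = pt q.1 := g.1.injective (idx_injective h2)
        have := (testBit_domMask _).2 ⟨x, hx, hxe.trans (by rw [h3, idx_pt hq])⟩
        rw [this] at hnew
        exact Bool.noConfusion hnew
      · rw [Bool.eq_iff_iff, beq_iff_eq, beq_iff_eq]
        have e1 : app D.cls[i].a (idx (g.1 (pt q.1))) = idx ((elt hD i).1 (g.1 (pt q.1))) := hr _
        have e2 : app D.cls[i].a q.1 = idx ((elt hD i).1 (pt q.1)) := by
          have := hr (pt q.1)
          rw [show (enc (pt q.1)).val = q.1 from idx_pt hq] at this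
          exact this
        have e3 : (elt hD i).1 (g.1 (pt q.1)) = g.1 ((elt hD i).1 (pt q.1)) :=
          (DFunLike.congr_fun hcomm' (pt q.1)).symm
        rw [e1, e2, e3]
        constructor
        · intro h; rw [g.1.injective (idx_injective h), idx_pt hq]
        · intro h
          rw [show (elt hD i).1 (pt q.1) = pt q.1 from idx_injective (by rw [h, idx_pt hq])]
    refine le_trans (Finset.card_le_mul_card_image S (fixedCentralizer hD i (q :: done)).card ?_)
      (Nat.mul_le_mul_left _ ((Finset.card_le_card himg).trans (List.toFinset_card_le _)))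
    intro b hb'
    obtain ⟨g0, hg0, hg0b⟩ := Finset.mem_image.1 hb'
    refine Finset.card_le_card_of_injOn (fun g => g0⁻¹ * g) (fun g hg => ?_)
      (fun x _ y _ h => mul_left_cancel h)
    simp only [Finset.coe_filter, Set.mem_ofPred_eq, hS, fixedCentralizer, Finset.mem_filter] at hg hg0
    obtain ⟨⟨-, hc, hf⟩, hgb⟩ := hg
    obtain ⟨-, hc0, hf0⟩ := hg0
    simp only [Finset.mem_coe, fixedCentralizer, Finset.mem_filter, Finset.mem_univ, true_and]
    refine ⟨?_, fun x hx => ?_⟩
    · exact ((Commute.inv_left (hc0 : Commute g0 (elt hD i))).mul_left hc).eq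
    · have happ : g.1 (pt x.1) = g0.1 (pt x.1) := by
        rcases List.mem_cons.1 hx with rfl | hx
        · exact idx_injective (hgb.trans hg0b.symm)
        · rw [hf x hx, hf0 x hx]
      change g0.1⁻¹ (g.1 (pt x.1)) = pt x.1
      rw [happ, perm_inv_apply]

theorem card_centralizer (i : Fin D.cls.length) :
    Nat.card (Subgroup.centralizer ({elt hD i} : Set H)) = D.cls[i].L.length := by
  classical
  have h := clsOK_get hD i
  simp only [clsOK, Bool.and_eq_true, List.all_eq_true, beq_iff_eq] at h
  obtain ⟨⟨⟨⟨-, hsort⟩, hL⟩, hpre, hbound⟩, hlev, hsearch⟩ := h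
  have hfr : ∀ q ∈ D.frozen, q.1 < 24 := by
    have hok := hD.ok
    simp only [ClassCert.ok, Bool.and_eq_true, List.all_eq_true, decide_eq_true_eq] at hok
    exact hok.1.1.1.1.1.1.2
  have hpre24 : ∀ (rest done : List (ℕ × ℕ)), preOK D.cls[i].a done rest = true →
      ∀ q ∈ rest, q.1 < 24 := by
    intro rest
    induction rest with
    | nil => simp
    | cons a rest ih =>
      intro done h q hq
      simp only [preOK, Bool.and_eq_true, decide_eq_true_eq] at h
      rcases List.mem_cons.1 hq with rfl | hq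
      exacts [h.1.1, ih _ h.2 q hq]
  have hall : (fixedCentralizer hD i D.frozen).card =
      Nat.card (Subgroup.centralizer ({elt hD i} : Set H)) := by
    rw [Nat.card_eq_fintype_card, ← Fintype.card_coe]
    refine Fintype.card_congr (Equiv.subtypeEquivRight fun g => ?_)
    simp only [fixedCentralizer, Finset.mem_filter, Finset.mem_univ, true_and,
      Subgroup.mem_centralizer_singleton_iff]
    exact ⟨fun h => h.1, fun h => ⟨h, hD.frozen g.1 g.2⟩⟩
  refine le_antisymm ?_ ?_
  · rw [← hall, ← hbound]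
    refine card_fixedCentralizer_le hD i _ _ hfr hpre ?_
    refine le_trans ?_ (List.toFinset_card_le _)
    have hx : ∀ g ∈ fixedCentralizer hD i (D.cls[i].pre.reverse ++ D.frozen),
        ∃ t ∈ D.cls[i].base, Rep enc g.1 t := by
      intro g hg
      simp only [fixedCentralizer, Finset.mem_filter] at hg
      have hcomm : g.1 * (elt hD i).1 = (elt hD i).1 * g.1 := congrArg Subtype.val hg.2.1
      refine search_sound (k := 1) (rep_elt hD i) (by rwa [pow_one]) (hD.le g.2) _ D.fixes
        (hD.fix g.1 g.2) _ _ (agrees_asgOf (rep_elt hD i) hcomm _ fun q hq => ?_) hlev hsearch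
      refine ⟨?_, hg.2.2 q hq⟩
      rcases List.mem_append.1 hq with hq | hq
      exacts [hpre24 _ _ hpre q (List.mem_reverse.1 hq), hfr q hq]
    choose f hf hrep using hx
    refine Finset.card_le_card_of_injOn (fun g => if hg : g ∈ _ then f g hg else 0)
      (fun g hg => ?_) ?_
    · simp only [dif_pos (Finset.mem_coe.1 hg)]
      exact List.mem_toFinset.2 (hf g hg)
    · intro g hg g' hg' e
      simp only [dif_pos (Finset.mem_coe.1 hg), dif_pos (Finset.mem_coe.1 hg')] at e
      exact Subtype.ext (Rep.unique (hrep g hg) (e ▸ hrep g' hg'))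
  · rw [← List.toFinset_card_of_nodup (nodup_of_sortedLt hsort), ← Nat.card_eq_finsetCard]
    have hx : ∀ t : D.cls[i].L.toFinset, ∃ g : Subgroup.centralizer ({elt hD i} : Set H),
        Rep enc g.1.1 t.1 := by
      rintro ⟨t, ht⟩
      obtain ⟨⟨-, hin⟩, hc⟩ := hL t (List.mem_toFinset.1 ht)
      obtain ⟨σ, hσ, r⟩ := hD.sound hin
      exact ⟨⟨⟨σ, hσ⟩, Subgroup.mem_centralizer_singleton_iff.2 (Subtype.ext
        (mul_eq_of_prodEq r (rep_elt hD i) (rep_elt hD i) r hc))⟩, r⟩
    choose f hf using hx
    refine Nat.card_le_card_of_injective f fun t t' e => Subtype.ext ?_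
    exact table_unique (hf t) (e ▸ hf t') (hL _ (List.mem_toFinset.1 t.2)).1.1
      (hL _ (List.mem_toFinset.1 t'.2)).1.1

theorem centralizer_tables (i : Fin D.cls.length) {g : H}
    (hg : g ∈ Subgroup.centralizer ({elt hD i} : Set H)) :
    ∃ t ∈ D.cls[i].L, Rep enc g.1 t := by
  classical
  have h := clsOK_get hD i
  simp only [clsOK, Bool.and_eq_true, List.all_eq_true, beq_iff_eq] at h
  obtain ⟨⟨⟨⟨-, hsort⟩, hL⟩, -, -⟩, -, -⟩ := h
  have hx : ∀ t : D.cls[i].L.toFinset, ∃ y : Subgroup.centralizer ({elt hD i} : Set H),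
      Rep enc y.1.1 t.1 := by
    rintro ⟨t, ht⟩
    obtain ⟨⟨-, hin⟩, hc⟩ := hL t (List.mem_toFinset.1 ht)
    obtain ⟨σ, hσ, r⟩ := hD.sound hin
    exact ⟨⟨⟨σ, hσ⟩, Subgroup.mem_centralizer_singleton_iff.2 (Subtype.ext
      (mul_eq_of_prodEq r (rep_elt hD i) (rep_elt hD i) r hc))⟩, r⟩
  choose f hf using hx
  have hinj : Function.Injective f := fun t t' e => Subtype.ext
    (table_unique (hf t) (e ▸ hf t') (hL _ (List.mem_toFinset.1 t.2)).1.1
      (hL _ (List.mem_toFinset.1 t'.2)).1.1)
  have hbij := (Nat.bijective_iff_injective_and_card f).2 ⟨hinj, by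
    rw [card_centralizer hD i, Nat.card_eq_finsetCard,
      List.toFinset_card_of_nodup (nodup_of_sortedLt hsort)]⟩
  obtain ⟨t, ht⟩ := hbij.2 ⟨g, hg⟩
  refine ⟨t.1, List.mem_toFinset.1 t.2, ?_⟩
  have := hf t
  rwa [ht] at this

omit hD in
theorem eltOK_spec (hD : D.Valid inH H) {E : EltCert} (hE : eltOK inH D.cls E = true) {g : H}
    (hg : Rep enc g.1 E.t) (hodd : Odd (orderOf g)) (h1 : g ≠ 1) :
    ∃ i, IsConj g (elt hD i) := by
  simp only [eltOK, Bool.or_eq_true] at hE
  rcases hE with hE | hE
  · exact absurd (Subtype.ext (by simpa using (powId_iff hg 1).1 hE)) h1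
  by_cases hi : E.i < D.cls.length
  · rw [List.getElem?_eq_getElem hi] at hE
    simp only [Bool.and_eq_true] at hE
    obtain ⟨γ, hγ, rγ⟩ := hD.sound hE.1
    refine ⟨⟨E.i, hi⟩, isConj_iff.2 ⟨⟨γ, hγ⟩, Subtype.ext ?_⟩⟩
    change γ * g.1 * γ⁻¹ = _
    rw [mul_inv_eq_iff_eq_mul]
    exact mul_eq_of_prodEq rγ hg (rep_elt hD _) rγ hE.2
  · rw [List.getElem?_eq_none (by omega)] at hE
    simp only [Bool.and_eq_true, Bool.not_eq_true', decide_eq_true_eq] at hE
    obtain ⟨⟨hn, hm⟩, hdvd⟩ := hE
    exfalso
    have hd : orderOf g.1 ∣ E.m * 1024 :=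
      (orderOf_dvd_of_pow_eq_one ((powId_iff hg _).1 hn)).trans hdvd
    rw [Subgroup.orderOf_coe] at hd
    have hco : Nat.Coprime (orderOf g) 1024 :=
      (Nat.Coprime.pow_left 10 (Nat.coprime_two_left.2 hodd)).symm
    have := (powId_iff hg E.m).2 (by
      rw [← orderOf_dvd_iff_pow_eq_one, Subgroup.orderOf_coe]; exact hco.dvd_of_dvd_mul_right hd)
    rw [this] at hm
    exact Bool.noConfusion hm

theorem not_isConj_elt {i j : Fin D.cls.length} (hij : i < j) :
    ¬ IsConj (elt hD i) (elt hD j) := by
  intro hc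
  obtain ⟨g, hg⟩ := isConj_iff.1 hc
  have hok := hD.ok
  simp only [ClassCert.ok, Bool.and_eq_true, List.all_eq_true, List.mem_range] at hok
  have h := hok.1.1.1.1.1.2 j.1 j.2 i.1 hij
  rw [List.getElem?_eq_getElem i.2, List.getElem?_eq_getElem j.2] at h
  simp only [distinctOK, Bool.or_eq_true, bne_iff_ne, Bool.and_eq_true, allBelow_iff, beq_iff_eq] at h
  rcases h with (h | h) | ⟨⟨hpow, hlev⟩, hs⟩
  · apply h
    change D.cls[i].r = D.cls[j].r
    rw [← orderOf_elt hD i, ← orderOf_elt hD j, ← hg,
      show g * elt hD i * g⁻¹ = MulAut.conj g (elt hD i) from rfl, MulEquiv.orderOf_eq]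
  · apply h
    change D.cls[i].f = D.cls[j].f
    rw [← fix_elt hD i, ← fix_elt hD j, ← hg]
    exact (fix_card_conj g.1 (elt hD i).1).symm
  · have hj : (elt hD j).1 = (elt hD i).1 ^ (D.cls[i].r - 1) := by
      refine Equiv.ext fun p => idx_injective ?_
      rw [← iterApp_eq (rep_elt hD i) p]
      have := rep_elt hD j p
      exact this.symm.trans (hpow _ (idx_lt p))
    obtain ⟨t, ht, -⟩ := search_sound (g := g.1) (k := D.cls[i].r - 1) (rep_elt hD i)
      (by
        rw [← hj, ← hg]
        change g.1 * (elt hD i).1 = g.1 * (elt hD i).1 * g.1⁻¹ * g.1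
        rw [inv_mul_cancel_right])
      (hD.le g.2) [] D.fixes (hD.fix g.1 g.2) _ [] (by simp [Agrees]) hlev hs
    simp at ht

theorem eq_of_isConj_elt {i j : Fin D.cls.length} (h : IsConj (elt hD i) (elt hD j)) : i = j := by
  rcases lt_trichotomy i j with hlt | heq | hgt
  exacts [absurd h (not_isConj_elt hD hlt), heq, absurd h.symm (not_isConj_elt hD hgt)]

theorem exists_of_prime_dvd {g : H} (hodd : Odd (orderOf g)) (h1 : g ≠ 1) {p : ℕ} (hp : p.Prime)
    (hdvd : p ∣ orderOf g) (hsq : ¬ p ^ 2 ∣ Nat.card H) {P : ℕ × List EltCert}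
    (hP : P ∈ D.primes) {C : Cls} (hC : D.cls[P.1]? = some C) (hr : C.r = p) :
    ∃ i, IsConj g (elt hD i) := by
  classical
  haveI : Fact p.Prime := ⟨hp⟩
  obtain ⟨hlt, rfl⟩ := List.getElem?_eq_some_iff.1 hC
  set i : Fin D.cls.length := ⟨P.1, hlt⟩
  have hord : orderOf (elt hD i) = p := (orderOf_elt hD i).trans hr
  have hfac : (Nat.card H).factorization p = 1 := by
    refine le_antisymm ?_ (hp.factorization_pos_of_dvd Nat.card_pos.ne'
      (hdvd.trans (orderOf_dvd_natCard g)))
    by_contra hle
    exact hsq ((hp.pow_dvd_iff_le_factorization Nat.card_pos.ne').2 (by omega))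
  set h := g ^ (orderOf g / p) with hh
  have hho : orderOf h = p := orderOf_pow_orderOf_div (orderOf_pos g).ne' hdvd
  have hcard : ∀ y : H, orderOf y = p →
      Nat.card (Subgroup.zpowers y) = p ^ (Nat.card H).factorization p := by
    intro y hy; rw [Nat.card_zpowers, hy, hfac, pow_one]
  obtain ⟨c, hc⟩ := MulAction.exists_smul_eq H (Sylow.ofCard _ (hcard h hho))
    (Sylow.ofCard _ (hcard _ hord))
  have hmem : c * h * c⁻¹ ∈ Subgroup.zpowers (elt hD i) := by
    have he := congrArg (fun S : Sylow p H => (S : Subgroup H)) hc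
    simp only [Sylow.coe_ofCard, Sylow.coe_subgroup_smul] at he
    rw [← he]
    exact ⟨h, Subgroup.mem_zpowers h, rfl⟩
  have hne : c * h * c⁻¹ ≠ 1 := by
    rw [Ne, conj_eq_one_iff]
    intro e
    rw [e, orderOf_one] at hho
    exact hp.one_lt.ne' hho.symm
  have hgen : elt hD i ∈ Subgroup.zpowers (c * h * c⁻¹) := by
    have hle : Subgroup.zpowers (c * h * c⁻¹) ≤ Subgroup.zpowers (elt hD i) :=
      Subgroup.zpowers_le.2 hmem
    have hceq : Nat.card (Subgroup.zpowers (c * h * c⁻¹)) =
        Nat.card (Subgroup.zpowers (elt hD i)) := by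
      rw [Nat.card_zpowers, Nat.card_zpowers, hord,
        show c * h * c⁻¹ = MulAut.conj c h from rfl, MulEquiv.orderOf_eq, hho]
    rw [Subgroup.eq_of_le_of_card_ge hle hceq.ge]
    exact Subgroup.mem_zpowers _
  have hcomm : c * g * c⁻¹ ∈ Subgroup.centralizer ({elt hD i} : Set H) := by
    rw [Subgroup.mem_centralizer_singleton_iff]
    obtain ⟨z, hz⟩ := Subgroup.mem_zpowers_iff.1 hgen
    rw [← hz]
    refine (Commute.zpow_right ?_ z).eq
    change Commute (MulAut.conj c g) (MulAut.conj c h)
    exact ((Commute.refl g).pow_right _).map (MulAut.conj c).toMonoidHom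
  obtain ⟨t, ht, hrep⟩ := centralizer_tables hD i hcomm
  have hok := hD.ok
  simp only [ClassCert.ok, Bool.and_eq_true, List.all_eq_true] at hok
  have hPok := hok.1.1.1.1.2 P hP
  rw [List.getElem?_eq_getElem hlt] at hPok
  simp only [Bool.and_eq_true, List.all_eq_true, beq_iff_eq] at hPok
  change t ∈ (D.cls[P.1]'hlt).L at ht
  rw [← hPok.1, List.mem_map] at ht
  obtain ⟨E, hE, rfl⟩ := ht
  have hconj : IsConj g (c * g * c⁻¹) := isConj_iff.2 ⟨c, rfl⟩
  obtain ⟨j, hj⟩ := eltOK_spec hD (hPok.2 E hE) hrep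
    (by rwa [show c * g * c⁻¹ = MulAut.conj c g from rfl, MulEquiv.orderOf_eq])
    (by rw [Ne, conj_eq_one_iff]; exact h1)
  exact ⟨j, hconj.trans hj⟩

/-- The members listed in the Sylow 3-subgroup. -/
def threeSet (_hD : D.Valid inH H) : Submonoid H where
  carrier := {g | ∃ E ∈ D.three, Rep enc g.1 E.t}
  one_mem' := by
    have hok := _hD.ok
    simp only [ClassCert.ok, Bool.and_eq_true, List.any_eq_true] at hok
    obtain ⟨E, hE, hp⟩ := hok.1.2
    obtain ⟨σ, -, r⟩ : InGroup enc H E.t := by
      have := List.all_eq_true.1 hok.1.1.1.2 E hE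
      simp only [Bool.and_eq_true] at this
      exact _hD.sound this.1.2
    have := (powId_iff r 1).1 hp
    rw [pow_one] at this
    subst this
    exact ⟨E, hE, r⟩
  mul_mem' := by
    rintro a b ⟨A, hA, ra⟩ ⟨B, hB, rb⟩
    have hok := _hD.ok
    simp only [ClassCert.ok, Bool.and_eq_true, List.all_eq_true, List.any_eq_true] at hok
    obtain ⟨C, hC, hc⟩ := hok.2 A hA B hB
    refine ⟨C, hC, fun x => ?_⟩
    simp only [allBelow_iff, beq_iff_eq] at hc
    rw [hc _ (enc x).isLt, rb x, ra]
    rfl

/-- The listed members as a subgroup. -/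
def threeGroup (_hD : D.Valid inH H) : Subgroup H where
  toSubmonoid := threeSet _hD
  inv_mem' {g} hg := by
    have h : g⁻¹ = g ^ (orderOf g - 1) := by
      refine inv_eq_of_mul_eq_one_right ?_
      rw [← pow_succ', Nat.sub_add_cancel (orderOf_pos g), pow_orderOf_eq_one]
    rw [h]
    exact (threeSet _hD).pow_mem hg _

theorem card_threeGroup : Nat.card (threeGroup hD) = 3 ^ (Nat.card H).factorization 3 := by
  classical
  have hok := hD.ok
  simp only [ClassCert.ok, Bool.and_eq_true, List.all_eq_true] at hok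
  obtain ⟨⟨⟨⟨-, hmem⟩, hsort⟩, -⟩, -⟩ := hok
  rw [← hD.sylow_three, ← List.length_map (f := EltCert.t),
    ← List.toFinset_card_of_nodup (nodup_of_sortedLt hsort), ← Nat.card_eq_finsetCard]
  choose f hf hrep using fun g : threeGroup hD => g.2
  refine Nat.card_eq_of_bijective
    (fun g => ⟨(f g).t, List.mem_toFinset.2 (List.mem_map_of_mem (hf g))⟩)
    ⟨fun g g' e => ?_, ?_⟩
  · have e' : (f g).t = (f g').t := congrArg Subtype.val e
    exact Subtype.ext (Subtype.ext (Rep.unique (hrep g) (e' ▸ hrep g')))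
  · rintro ⟨t, ht⟩
    obtain ⟨E, hE, rfl⟩ := List.mem_map.1 (List.mem_toFinset.1 ht)
    obtain ⟨σ, hσ, r⟩ := hD.sound (hmem E hE).1.2
    refine ⟨⟨⟨σ, hσ⟩, E, hE, r⟩, Subtype.ext ?_⟩
    exact table_unique (hrep ⟨⟨σ, hσ⟩, E, hE, r⟩) r (beq_iff_eq.1 (hmem _ (hf _)).1.1)
      (beq_iff_eq.1 (hmem E hE).1.1)

theorem exists_of_three_pow {g : H} (hodd : Odd (orderOf g)) (h1 : g ≠ 1)
    (h3 : ∀ p : ℕ, p.Prime → p ∣ orderOf g → p = 3) : ∃ i, IsConj g (elt hD i) := by
  classical
  haveI : Fact (Nat.Prime 3) := ⟨Nat.prime_three⟩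
  have hpow := Nat.eq_prime_pow_of_unique_prime_dvd (orderOf_pos g).ne' (fun {d} hd => h3 d hd)
  have hG : IsPGroup 3 (Subgroup.zpowers g) :=
    IsPGroup.of_card (n := (orderOf g).primeFactorsList.length) (by rw [Nat.card_zpowers, ← hpow])
  obtain ⟨S, hS⟩ := hG.exists_le_sylow
  obtain ⟨c, hc⟩ := MulAction.exists_smul_eq H S (Sylow.ofCard _ (card_threeGroup hD))
  have hmem : c * g * c⁻¹ ∈ threeGroup hD := by
    have he := congrArg (fun S : Sylow 3 H => (S : Subgroup H)) hc
    simp only [Sylow.coe_ofCard, Sylow.coe_subgroup_smul] at he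
    rw [← he]
    exact ⟨g, hS (Subgroup.mem_zpowers g), rfl⟩
  obtain ⟨E, hE, hrep⟩ := hmem
  have hok := hD.ok
  simp only [ClassCert.ok, Bool.and_eq_true, List.all_eq_true] at hok
  have hconj : IsConj g (c * g * c⁻¹) := isConj_iff.2 ⟨c, rfl⟩
  obtain ⟨j, hj⟩ := eltOK_spec hD (hok.1.1.1.2 E hE).2 hrep
    (by rwa [show c * g * c⁻¹ = MulAut.conj c g from rfl, MulEquiv.orderOf_eq])
    (by rw [Ne, conj_eq_one_iff]; exact h1)
  exact ⟨j, hconj.trans hj⟩

/-- Every nontrivial element of odd order is conjugate to a representative. -/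
theorem exists_isConj_elt {g : H} (hodd : Odd (orderOf g)) (h1 : g ≠ 1) :
    ∃ i, IsConj g (elt hD i) := by
  by_cases h3 : ∀ p : ℕ, p.Prime → p ∣ orderOf g → p = 3
  · exact exists_of_three_pow hD hodd h1 h3
  push Not at h3
  obtain ⟨p, hp, hdvd, hne⟩ := h3
  rcases hD.odd_primes p hp (hdvd.trans (orderOf_dvd_natCard g)) with rfl | h | ⟨P, hP, C, hC, hr, hsq⟩
  · exact absurd (hodd.of_dvd_nat hdvd) (by decide)
  · exact absurd h hne
  · exact exists_of_prime_dvd hD hodd h1 hp hdvd hsq hP hC hr

/-- A sum of a class function over the elements of odd order, class by class. -/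
theorem finsum_odd_eq (F : H → ℂ) (hF : ∀ x y : H, IsConj x y → F x = F y) :
    (∑ᶠ x ∈ {x : H | ¬ 2 ∣ orderOf x}, F x) =
      F 1 + ∑ i, ((Subgroup.centralizer ({elt hD i} : Set H)).index : ℂ) * F (elt hD i) := by
  classical
  let T : Fin D.cls.length → Finset H := fun i => Finset.univ.filter fun x => IsConj x (elt hD i)
  have hset : {x : H | ¬ 2 ∣ orderOf x} = ↑(insert 1 (Finset.univ.biUnion T)) := by
    ext x
    simp only [Set.mem_ofPred_eq, Finset.coe_insert, Finset.coe_biUnion, Finset.coe_univ,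
      Set.mem_univ, Set.iUnion_true, Set.mem_insert_iff, Set.mem_iUnion, Finset.coe_filter,
      Finset.mem_univ, true_and, T, ← even_iff_two_dvd,
      Nat.not_even_iff_odd]
    constructor
    · intro hx
      by_cases h1 : x = 1
      exacts [Or.inl h1, Or.inr (exists_isConj_elt hD hx h1)]
    · rintro (rfl | ⟨i, hi⟩)
      · simp
      · obtain ⟨c, hc⟩ := isConj_iff.1 hi
        have := (odd_orderOf_elt hD i).1
        rwa [← hc, show c * x * c⁻¹ = MulAut.conj c x from rfl, MulEquiv.orderOf_eq] at this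
  have h1 : (1 : H) ∉ Finset.univ.biUnion T := by
    simp only [Finset.mem_biUnion, Finset.mem_univ, true_and, Finset.mem_filter, T, not_exists]
    intro i hi
    exact (odd_orderOf_elt hD i).2 (isConj_one_right.1 hi).symm.symm
  have hdisj : ((Finset.univ : Finset (Fin D.cls.length)) : Set _).PairwiseDisjoint T := by
    intro i _ j _ hij
    refine Finset.disjoint_left.2 fun x hx hx' => hij ?_
    simp only [T, Finset.mem_filter] at hx hx'
    exact eq_of_isConj_elt hD (hx.2.symm.trans hx'.2)
  rw [hset, finsum_mem_coe_finset, Finset.sum_insert h1, Finset.sum_biUnion hdisj]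
  congr 1
  refine Finset.sum_congr rfl fun i _ => ?_
  rw [Finset.sum_congr rfl fun x hx => hF x _ (Finset.mem_filter.1 hx).2, Finset.sum_const,
    nsmul_eq_mul, ← Characters.card_conjugates_eq_index, Nat.card_eq_fintype_card,
    Fintype.card_subtype]

theorem index_centralizer_elt (i : Fin D.cls.length) :
    (Subgroup.centralizer ({elt hD i} : Set H)).index * D.cls[i].L.length = Nat.card H := by
  rw [← card_centralizer hD i, Subgroup.index_mul_card]

end CfsgLib.TwoBlockMathieu
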