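import Cfsg.Agent.TwoBlockMathieu.M24Data

/-! The certificate for the classes of elements of odd order of M24 is valid. -/

set_option autoImplicit false
-- one kernel computation at a time keeps the peak memory small
set_option Elab.async false

namespace CfsgLib.TwoBlockMathieu.M24Data

open Cfsg CfsgLib.Mathieu CfsgLib.Schur.Pc CfsgLib.SporadicOut

theorem factorization_three : (244823040 : ℕ).factorization 3 = 3 := by
  rw [show (244823040 : ℕ) = 3 ^ 3 * 9067520 by norm_num, Nat.factorization_mul (by norm_num)
    (by norm_num), Finsupp.coe_add, Pi.add_apply, Nat.Prime.factorization_pow Nat.prime_three,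
    Finsupp.single_eq_same, Nat.factorization_eq_zero_of_not_dvd (by norm_num)]

/-- The check on one element of the list of a centraliser. -/
private def listOK (a t : ℕ) : Bool := normT t == t && inM24 t && prodEq t a a t

private theorem clsOK_of (C : Cls)
    (h : (inM24 C.a && powId C.a C.r && allBelow C.r (fun j => j == 0 || !powId C.a j) &&
      decide (C.r % 2 = 1 ∧ 1 < C.r) && fixT C.a == C.f && sortedLt C.L) = true)
    (hL : C.L.all (listOK C.a) = true)
    (hP : (preOK C.a [] C.pre && stabBound C.a C.base.length [] C.pre == C.L.length) = true)
    (hS : (levelsOK [] C.a C.levT (domMask (asgOf C.a (C.pre.reverse ++ []))) &&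
      search C.a 1 C.base C.levT (asgOf C.a (C.pre.reverse ++ []))) = true) :
    clsOK inM24 [] [] C = true := by
  unfold listOK at hL
  rw [clsOK]
  simp only [h, hL, hP, hS, Bool.and_self]

private theorem list0_0_ok : list0_0.all (listOK rep0.a) = true := by decide +kernel

private theorem list0_1_ok : list0_1.all (listOK rep0.a) = true := by decide +kernel

private theorem list0_2_ok : list0_2.all (listOK rep0.a) = true := by decide +kernel

private theorem list0_3_ok : list0_3.all (listOK rep0.a) = true := by decide +kernel

private theorem list0_4_ok : list0_4.all (listOK rep0.a) = true := by decide +kernel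

private theorem rep0_ok : clsOK inM24 [] [] rep0 = true :=
  clsOK_of rep0 (by decide +kernel)
    (by
      show (list0_0 ++ list0_1 ++ list0_2 ++ list0_3 ++ list0_4).all (listOK rep0.a) = true
      simp only [List.all_append, list0_0_ok, list0_1_ok, list0_2_ok, list0_3_ok, list0_4_ok, Bool.and_self])
    (by decide +kernel) (by decide +kernel)

private theorem list1_0_ok : list1_0.all (listOK rep1.a) = true := by decide +kernel

private theorem list1_1_ok : list1_1.all (listOK rep1.a) = true := by decide +kernel

private theorem list1_2_ok : list1_2.all (listOK rep1.a) = true := by decide +kernel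

private theorem list1_3_ok : list1_3.all (listOK rep1.a) = true := by decide +kernel

private theorem list1_4_ok : list1_4.all (listOK rep1.a) = true := by decide +kernel

private theorem list1_5_ok : list1_5.all (listOK rep1.a) = true := by decide +kernel

private theorem list1_6_ok : list1_6.all (listOK rep1.a) = true := by decide +kernel

private theorem list1_7_ok : list1_7.all (listOK rep1.a) = true := by decide +kernel

private theorem list1_8_ok : list1_8.all (listOK rep1.a) = true := by decide +kernel

private theorem rep1_ok : clsOK inM24 [] [] rep1 = true :=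
  clsOK_of rep1 (by decide +kernel)
    (by
      show (list1_0 ++ list1_1 ++ list1_2 ++ list1_3 ++ list1_4 ++ list1_5 ++ list1_6 ++ list1_7 ++ list1_8).all (listOK rep1.a) = true
      simp only [List.all_append, list1_0_ok, list1_1_ok, list1_2_ok, list1_3_ok, list1_4_ok, list1_5_ok, list1_6_ok, list1_7_ok, list1_8_ok, Bool.and_self])
    (by decide +kernel) (by decide +kernel)

private theorem rep2_ok : clsOK inM24 [] [] rep2 = true := by decide +kernel

private theorem rep3_ok : clsOK inM24 [] [] rep3 = true := by decide +kernel

private theorem rep4_ok : clsOK inM24 [] [] rep4 = true := by decide +kernel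

private theorem rep5_ok : clsOK inM24 [] [] rep5 = true := by decide +kernel

private theorem rep6_ok : clsOK inM24 [] [] rep6 = true := by decide +kernel

private theorem rep7_ok : clsOK inM24 [] [] rep7 = true := by decide +kernel

private theorem rep8_ok : clsOK inM24 [] [] rep8 = true := by decide +kernel

private theorem rep9_ok : clsOK inM24 [] [] rep9 = true := by decide +kernel

private theorem rep10_ok : clsOK inM24 [] [] rep10 = true := by decide +kernel

private theorem rep11_ok : clsOK inM24 [] [] rep11 = true := by decide +kernel

private theorem cls_ok : cert.cls.all (clsOK inM24 cert.fixes cert.frozen) = true := by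
  simp only [cert, List.all_cons, List.all_nil, rep0_ok, rep1_ok, rep2_ok, rep3_ok, rep4_ok, rep5_ok, rep6_ok, rep7_ok, rep8_ok, rep9_ok, rep10_ok, rep11_ok,
    Bool.and_self]

private theorem frozen_ok : cert.frozen.all (fun q => decide (q.1 < 24)) = true := by decide +kernel

private theorem distinct_ok : ((List.range cert.cls.length).all fun j => (List.range j).all fun i =>
    match cert.cls[i]?, cert.cls[j]? with
    | some A, some B => distinctOK cert.fixes A B
    | _, _ => false) = true := by decide +kernel

private theorem primes_ok : (cert.primes.all fun P =>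
    match cert.cls[P.1]? with
    | some C => P.2.map EltCert.t == C.L && P.2.all (eltOK inM24 cert.cls)
    | none => false) = true := by decide +kernel

private theorem three_ok : (cert.three.all fun E =>
    normT E.t == E.t && inM24 E.t && eltOK inM24 cert.cls E) = true := by decide +kernel

private theorem sorted_ok : (sortedLt (cert.three.map EltCert.t) &&
    cert.three.any (fun E => powId E.t 1)) = true := by decide +kernel

private theorem closed_ok : (cert.three.all fun A => cert.three.all fun B =>
    cert.three.any fun C => allBelow 24 fun i => app C.t i == app A.t (app B.t i)) = true := by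
  decide +kernel

theorem ok_cert : cert.ok inM24 = true := by
  have hs := sorted_ok
  rw [Bool.and_eq_true] at hs
  simp only [ClassCert.ok, Bool.and_eq_true]
  exact ⟨⟨⟨⟨⟨⟨⟨cls_ok, frozen_ok⟩, distinct_ok⟩, primes_ok⟩, three_ok⟩, hs.1⟩, hs.2⟩,
    closed_ok⟩

theorem valid : cert.Valid inM24 M24 where
  le := le_refl _
  sound := inGroup_of_inM24
  frozen := fun _ _ q hq => by simp [cert] at hq
  fix := fun _ _ W hW => by simp [cert] at hW
  ok := ok_cert
  odd_primes := by
    intro p hp hd
    rw [card_M24, show (244823040 : ℕ) = 2 ^ 10 * 3 ^ 3 * (5 * 7 * 11 * 23) by norm_num] at hd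
    rw [card_M24]
    have hpp : ∀ q : ℕ, q.Prime → ∀ k, p ∣ q ^ k → p = q := fun q hq k h =>
      (Nat.prime_dvd_prime_iff_eq hp hq).1 (hp.dvd_of_dvd_pow h)
    rcases (Nat.Prime.dvd_mul hp).1 hd with h | h
    · rcases (Nat.Prime.dvd_mul hp).1 h with h | h
      · exact Or.inl (hpp 2 Nat.prime_two 10 h)
      · exact Or.inr (Or.inl (hpp 3 Nat.prime_three 3 h))
    · refine Or.inr (Or.inr ?_)
      rcases (Nat.Prime.dvd_mul hp).1 h with h | h
      · rcases (Nat.Prime.dvd_mul hp).1 h with h | h
        · rcases (Nat.Prime.dvd_mul hp).1 h with h | h
          · obtain rfl := (Nat.prime_dvd_prime_iff_eq hp (by norm_num)).1 h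
            exact ⟨(2, elts0), by simp [cert], rep2, rfl, rfl, by norm_num⟩
          · obtain rfl := (Nat.prime_dvd_prime_iff_eq hp (by norm_num)).1 h
            exact ⟨(3, elts1), by simp [cert], rep3, rfl, rfl, by norm_num⟩
        · obtain rfl := (Nat.prime_dvd_prime_iff_eq hp (by norm_num)).1 h
          exact ⟨(5, elts2), by simp [cert], rep5, rfl, rfl, by norm_num⟩
      · obtain rfl := (Nat.prime_dvd_prime_iff_eq hp (by norm_num)).1 h
        exact ⟨(10, elts3), by simp [cert], rep10, rfl, rfl, by norm_num⟩
  sylow_three := by rw [card_M24, factorization_three]; rfl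

end CfsgLib.TwoBlockMathieu.M24Data
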