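import Cfsg.Agent.Characters.Generalized
import Cfsg.Agent.GaloisAverage.Basic
import Cfsg.Agent.BlocksCharsC.RegularSupport
import Cfsg.Agent.BlocksLocal.Support
import Cfsg.Agent.BlockPairing.TwoBlocks

/-!
# Character values on classes of odd order, and characters outside the principal 2-block

* integrality facts for a class fused with its powers up to inversion;
* the permutation character of a 2-transitive action;
* relations satisfied by a character outside the principal 2-block.
-/

set_option autoImplicit false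
set_option linter.unusedSectionVars false
set_option linter.style.haveILetI false

namespace CfsgLib.TwoBlockMathieu

open CfsgLib Cfsg
open scoped ComplexConjugate

variable {G : Type} [Group G] [Fintype G]

/-- The values on the powers of an element add up to a multiple of its order. -/
theorem exists_int_avg {θ : G → ℂ} (h : Cfsg.IsGeneralizedCharacter G θ) (x : G) :
    ∃ m : ℤ, ∑ k ∈ Finset.range (orderOf x), θ (x ^ k) = (orderOf x : ℂ) * m := by
  classical
  haveI : Fintype (Subgroup.zpowers x) := Fintype.ofFinite _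
  obtain ⟨z, hz⟩ := Characters.classInner_gen (Characters.isGen_restrict (Subgroup.zpowers x) h)
    (Characters.isGen_one (G := Subgroup.zpowers x))
  refine ⟨z, ?_⟩
  rw [← hz, Cfsg.classInner, Nat.card_zpowers]
  have hsum : ∑ k ∈ Finset.range (orderOf x), θ (x ^ k) = ∑ y : Subgroup.zpowers x, θ y.1 := by
    rw [← Fin.sum_univ_eq_sum_range (fun k => θ (x ^ k))]
    exact Fintype.sum_equiv (finEquivZPowers (isOfFinOrder_of_finite x)) _ _ fun k => rfl
  rw [← mul_assoc, mul_inv_cancel₀ (Nat.cast_ne_zero.2 (orderOf_pos x).ne'), one_mul, hsum]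
  simp

theorem exists_int_of_rat {z : ℂ} {q : ℚ} (hq : z = q) (h : IsIntegral ℤ z) :
    ∃ v : ℤ, z = v := by
  subst hq
  exact GaloisAverage.exists_int_of_isIntegral_ratCast h

variable {χ : IrrCharacter G} {x : G} {r d : ℕ}

theorem conj_value (χ : IrrCharacter G) (g : G) :
    (χ : G → ℂ) g⁻¹ = conj ((χ : G → ℂ) g) :=
  Characters.gen_inv (Characters.isGen_of_isIrr χ.2) g

/-- A sum over the powers of `x` for a function constant on nontrivial powers. -/
theorem sum_powers_eq {θ : G → ℂ} {c : ℂ} (hx : orderOf x = r) (hr : 1 ≤ r)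
    (hc : ∀ k, 0 < k → k < r → θ (x ^ k) + θ (x ^ k)⁻¹ = c) :
    2 * ∑ k ∈ Finset.range r, θ (x ^ k) = 2 * θ 1 + ((r - 1 : ℕ) : ℂ) * c := by
  obtain ⟨e, rfl⟩ : ∃ e, r = e + 1 := ⟨r - 1, by omega⟩
  rw [Finset.sum_range_succ', pow_zero, Nat.add_sub_cancel, two_mul, mul_comm (e : ℂ)]
  nth_rewrite 2 [← Finset.sum_range_reflect]
  rw [add_add_add_comm, ← Finset.sum_add_distrib, Finset.sum_congr rfl (g := fun _ => c) ?_,
    Finset.sum_const, Finset.card_range, nsmul_eq_mul]
  · ring
  intro k hk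
  rw [Finset.mem_range] at hk
  have hinv : x ^ (e - 1 - k + 1) = (x ^ (k + 1))⁻¹ := by
    refine eq_inv_of_mul_eq_one_left ?_
    rw [← pow_add, show e - 1 - k + 1 + (k + 1) = e + 1 by omega, ← hx, pow_orderOf_eq_one]
  rw [hinv]
  exact hc (k + 1) (by omega) (by omega)

/-- Four times a lower bound for the squared absolute value of a value of trace `A`. -/
def pairBound (A : ℤ) (r : ℕ) : ℤ := A * A + (if A % 2 = 0 then 0 else (r : ℤ))

/-- A class of prime order fused with all its powers up to inversion. -/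
theorem exists_pair_value (hd : (χ : G → ℂ) 1 = d) (hx : orderOf x = r) (hr : r.Prime) (h2 : r ≠ 2)
    (hfus : ∀ k, 0 < k → k < r → IsConj (x ^ k) x ∨ IsConj (x ^ k) x⁻¹) :
    ∃ A : ℤ, (χ : G → ℂ) x + (χ : G → ℂ) x⁻¹ = A ∧ (r : ℤ) ∣ 2 * d - A ∧
      (pairBound A r : ℝ) ≤ 4 * Complex.normSq ((χ : G → ℂ) x) := by
  have hcf : ∀ {a b : G}, IsConj a b → (χ : G → ℂ) a = (χ : G → ℂ) b := fun h =>
    Characters.classFunction_isConj (Characters.isClassFunction_of_isIrr χ.2) h
  set z := (χ : G → ℂ) x with hz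
  have hval : ∀ k, 0 < k → k < r →
      (χ : G → ℂ) (x ^ k) = z ∨ (χ : G → ℂ) (x ^ k) = conj z := fun k h0 hk =>
    (hfus k h0 hk).imp hcf fun h => (hcf h).trans (conj_value χ x)
  have hr0 : (r : ℂ) ≠ 0 := Nat.cast_ne_zero.2 hr.ne_zero
  have hgen := Characters.isGen_of_isIrr χ.2
  -- the trace
  obtain ⟨m, hm⟩ := exists_int_avg hgen x
  have hsum := sum_powers_eq (θ := (χ : G → ℂ)) (c := z + conj z) hx hr.one_le fun k h0 hk => by
    rw [conj_value]
    rcases hval k h0 hk with h | h <;> rw [h] <;> simp [add_comm]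
  rw [hx] at hm
  rw [hm, hd] at hsum
  have hrm : ((r - 1 : ℕ) : ℂ) = (r : ℂ) - 1 := by rw [Nat.cast_sub hr.one_le]; simp
  have hr1 : (r : ℂ) - 1 ≠ 0 := by
    rw [← hrm]; exact Nat.cast_ne_zero.2 (by have := hr.two_le; omega)
  have hint : IsIntegral ℤ (z + conj z) := by
    rw [← conj_value]
    exact (Characters.gen_isIntegral hgen x).add (Characters.gen_isIntegral hgen x⁻¹)
  obtain ⟨A, hA⟩ := exists_int_of_rat (q := (2 * ((r : ℚ) * m) - 2 * d) / ((r : ℚ) - 1)) (by
    push_cast
    rw [eq_div_iff hr1, hsum, hrm]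
    ring) hint
  have hAeq : (r : ℤ) * (2 * m) = 2 * d + ((r : ℤ) - 1) * A := by
    rw [hA, hrm] at hsum
    exact_mod_cast (show (r : ℂ) * (2 * m) = 2 * d + ((r : ℂ) - 1) * A by rw [← hsum]; ring)
  have hdA : (r : ℤ) ∣ 2 * d - A := ⟨2 * m - A, by linear_combination -hAeq⟩
  -- the squared absolute value
  have hgen2 := Characters.isGen_mul hgen (Characters.isGen_conj hgen)
  obtain ⟨m', hm'⟩ := exists_int_avg hgen2 x
  have hsum2 := sum_powers_eq (θ := fun g => (χ : G → ℂ) g * conj ((χ : G → ℂ) g))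
    (c := 2 * (z * conj z)) hx hr.one_le fun k h0 hk => by
    rw [conj_value]
    rcases hval k h0 hk with h | h <;> rw [h] <;> simp [mul_comm] <;> ring
  rw [hx] at hm'
  simp only [Pi.mul_apply] at hm'
  rw [hm', hd, hrm] at hsum2
  simp only [map_natCast] at hsum2
  obtain ⟨P, hP⟩ := exists_int_of_rat (z := z * conj z)
    (q := ((r : ℚ) * m' - (d : ℚ) * d) / ((r : ℚ) - 1)) (by
    push_cast
    rw [eq_div_iff hr1]
    linear_combination (-(1 / 2) : ℂ) * hsum2) (by
    rw [← conj_value]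
    exact (Characters.gen_isIntegral hgen x).mul (Characters.gen_isIntegral hgen x⁻¹))
  have hPeq : (r : ℤ) * m' = d * d + ((r : ℤ) - 1) * P := by
    rw [hP] at hsum2
    exact_mod_cast (show (r : ℂ) * m' = d * d + ((r : ℂ) - 1) * P by
      linear_combination (1 / 2 : ℂ) * hsum2)
  have hdvd : (r : ℤ) ∣ 4 * P - A * A := by
    obtain ⟨a, ha⟩ := hdA
    refine ⟨4 * P + a * (2 * d + A) - 4 * m', ?_⟩
    linear_combination 4 * hPeq + (2 * (d : ℤ) + A) * ha
  have hn : (Complex.normSq z : ℂ) = (P : ℂ) := by rw [← Complex.mul_conj]; exact hP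
  have hn' : Complex.normSq z = (P : ℝ) := by exact_mod_cast hn
  have hre : 2 * z.re = (A : ℝ) := by
    have := congrArg Complex.re hA
    simp only [Complex.add_re, Complex.conj_re, Complex.intCast_re] at this
    linarith
  have hge : A * A ≤ 4 * P := by
    have : (A : ℝ) * A ≤ 4 * P := by
      rw [← hn', Complex.normSq_apply, ← hre]; nlinarith [mul_self_nonneg z.im]
    exact_mod_cast this
  refine ⟨A, by rw [conj_value]; exact hA, hdA, ?_⟩
  rw [hn']
  suffices pairBound A r ≤ 4 * P by exact_mod_cast this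
  rw [pairBound]
  split_ifs with he
  · simpa using hge
  · have hne : 4 * P - A * A ≠ 0 := by
      intro h0
      have h4 : A * A % 2 = 0 := by rw [show A * A = 2 * (2 * P) by linarith]; exact Int.mul_emod_right _ _
      rcases Int.emod_two_eq_zero_or_one A with h | h
      · exact he h
      · rw [Int.mul_emod, h] at h4; norm_num at h4
    have := Int.le_of_dvd (by omega) hdvd
    omega

/-- A class of prime order fused with all its powers. -/
theorem exists_real_value (hd : (χ : G → ℂ) 1 = d) (hx : orderOf x = r) (hr : r.Prime) (h2 : r ≠ 2)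
    (hfus : ∀ k, 0 < k → k < r → IsConj (x ^ k) x) :
    ∃ v : ℤ, (χ : G → ℂ) x = v ∧ (r : ℤ) ∣ d - v := by
  obtain ⟨A, hA, hdA, -⟩ := exists_pair_value (χ := χ) hd hx hr h2 fun k h0 hk =>
    Or.inl (hfus k h0 hk)
  have hinv : IsConj x⁻¹ x := by
    have hk := hfus (r - 1) (by have := hr.two_le; omega) (by have := hr.two_le; omega)
    have : x ^ (r - 1) = x⁻¹ := eq_inv_of_mul_eq_one_left (by
      rw [← pow_succ, Nat.sub_add_cancel hr.one_le, ← hx, pow_orderOf_eq_one])
    rwa [this] at hk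
  rw [Characters.classFunction_isConj (Characters.isClassFunction_of_isIrr χ.2) hinv] at hA
  obtain ⟨v, hv⟩ := exists_int_of_rat (z := (χ : G → ℂ) x) (q := (A : ℚ) / 2)
    (by push_cast; rw [← hA]; ring) (Characters.gen_isIntegral (Characters.isGen_of_isIrr χ.2) x)
  have hAv : A = 2 * v := by
    rw [hv] at hA
    exact_mod_cast (show (A : ℂ) = 2 * v by rw [← hA]; ring)
  refine ⟨v, hv, ?_⟩
  refine Int.dvd_of_dvd_mul_right_of_gcd_one (b := 2) (by rwa [hAv, ← mul_sub] at hdA) ?_
  rw [show (2 : ℤ) = ((2 : ℕ) : ℤ) from rfl, Int.gcd_natCast_natCast]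
  exact (Nat.coprime_primes hr Nat.prime_two).2 h2

/-- The trace of a value is an integer as soon as it is rational. -/
theorem exists_trace_value (χ : IrrCharacter G) (x : G) {q : ℚ}
    (hq : (χ : G → ℂ) x + (χ : G → ℂ) x⁻¹ = q) :
    ∃ A : ℤ, (χ : G → ℂ) x + (χ : G → ℂ) x⁻¹ = A ∧
      (A : ℝ) * A ≤ 4 * Complex.normSq ((χ : G → ℂ) x) := by
  have hgen := Characters.isGen_of_isIrr χ.2
  obtain ⟨A, hA⟩ := exists_int_of_rat hq
    ((Characters.gen_isIntegral hgen x).add (Characters.gen_isIntegral hgen x⁻¹))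
  refine ⟨A, hA, ?_⟩
  rw [conj_value] at hA
  have hre := congrArg Complex.re hA
  simp only [Complex.add_re, Complex.conj_re, Complex.intCast_re] at hre
  rw [Complex.normSq_apply, ← hre]
  nlinarith [mul_self_nonneg ((χ : G → ℂ) x).im]

section TwoTransitive

variable (Ω : Type) [Fintype Ω] [DecidableEq Ω] [MulAction G Ω]

/-- The number of fixed points. -/
def fixCount (g : G) : ℕ := (Finset.univ.filter fun a : Ω => g • a = a).card

theorem isCharacter_fixCount : Cfsg.IsCharacter G (fun g => (fixCount Ω g : ℂ)) := by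
  classical
  let ρ : Representation ℂ G (Ω → ℂ) :=
    { toFun := fun g => LinearMap.funLeft ℂ ℂ fun a => g⁻¹ • a
      map_one' := by ext f a; simp [LinearMap.funLeft]
      map_mul' := fun a b => by ext f c; simp [LinearMap.funLeft, mul_smul] }
  have h : ρ.character = fun g => (fixCount Ω g : ℂ) := by
    funext g
    rw [Representation.character, LinearMap.trace_eq_matrix_trace ℂ (Pi.basisFun ℂ Ω)]
    simp only [Matrix.trace, Matrix.diag, LinearMap.toMatrix_apply, Pi.basisFun_apply,
      Pi.basisFun_repr]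
    change (∑ a, (Pi.single a (1 : ℂ) : Ω → ℂ) (g⁻¹ • a)) = _
    simp only [Pi.single_apply, Finset.sum_boole, fixCount]
    congr 2
    ext a
    rw [Finset.mem_filter, Finset.mem_filter]
    simp only [Finset.mem_univ, true_and]
    rw [inv_smul_eq_iff]
    exact eq_comm
  exact h ▸ Characters.isCharacter_character ρ

theorem sum_fixCount_sq (a₀ b₀ : Ω) (hne : a₀ ≠ b₀)
    (h2 : ∀ a b c d : Ω, a ≠ b → c ≠ d → ∃ g : G, g • a = c ∧ g • b = d) :
    ∑ g : G, fixCount Ω g * fixCount Ω g = 2 * Nat.card G := by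
  classical
  haveI : Fintype (MulAction.orbitRel.Quotient G (Ω × Ω)) := Fintype.ofFinite _
  have hq : Fintype.card (MulAction.orbitRel.Quotient G (Ω × Ω)) = 2 := by
    rw [← Nat.card_eq_fintype_card, Nat.card_eq_two_iff]
    refine ⟨Quotient.mk'' (a₀, a₀), Quotient.mk'' (a₀, b₀), ?_, ?_⟩
    · intro h
      obtain ⟨g, hg⟩ := MulAction.mem_orbit_iff.1 (Quotient.exact' h)
      rw [Prod.smul_mk, Prod.mk.injEq] at hg
      exact hne (smul_left_cancel g (hg.1.trans hg.2.symm)).symm.symm
    · refine Set.eq_univ_of_forall fun q => ?_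
      induction q using Quotient.inductionOn' with
      | h p =>
        obtain ⟨a, b⟩ := p
        by_cases hab : a = b
        · subst hab
          left
          obtain ⟨c, hc⟩ : ∃ c : Ω, c ≠ a := ⟨if a = a₀ then b₀ else a₀, by
            split_ifs with h
            exacts [h ▸ hne.symm, Ne.symm h]⟩
          obtain ⟨g, hg, -⟩ := h2 a₀ b₀ a c hne hc.symm
          exact Quotient.sound' (MulAction.mem_orbit_iff.2 ⟨g, by rw [Prod.smul_mk, hg]⟩)
        · right
          obtain ⟨g, hg, hg'⟩ := h2 a₀ b₀ a b hne hab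
          exact Quotient.sound' (MulAction.mem_orbit_iff.2 ⟨g, by rw [Prod.smul_mk, hg, hg']⟩)
  have hb := MulAction.sum_card_fixedBy_eq_card_orbits_mul_card_group G (Ω × Ω)
  rw [hq, ← Nat.card_eq_fintype_card] at hb
  rw [← hb]
  refine Finset.sum_congr rfl fun g _ => ?_
  rw [fixCount, ← Finset.card_product, ← Nat.card_eq_fintype_card, ← Nat.card_eq_finsetCard]
  refine Nat.card_congr (Equiv.subtypeEquivRight fun p => ?_)
  simp [MulAction.mem_fixedBy, Prod.ext_iff, Prod.smul_def]

/-- A doubly transitive action gives the irreducible character `fixCount - 1`. -/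
theorem isIrr_fixCount_sub_one (a₀ b₀ : Ω) (hne : a₀ ≠ b₀)
    (h2 : ∀ a b c d : Ω, a ≠ b → c ≠ d → ∃ g : G, g • a = c ∧ g • b = d) :
    Cfsg.IsIrrCharacter G (fun g => (fixCount Ω g : ℂ) - 1) := by
  classical
  have htr : ∀ a b : Ω, ∃ g : G, g • a = b := by
    intro a b
    obtain ⟨c, hc⟩ : ∃ c : Ω, c ≠ a := ⟨if a = a₀ then b₀ else a₀, by
      split_ifs with h
      exacts [h ▸ hne.symm, Ne.symm h]⟩
    obtain ⟨e, he⟩ : ∃ e : Ω, e ≠ b := ⟨if b = a₀ then b₀ else a₀, by
      split_ifs with h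
      exacts [h ▸ hne.symm, Ne.symm h]⟩
    obtain ⟨g, hg, -⟩ := h2 a c b e hc.symm he.symm
    exact ⟨g, hg⟩
  have h1 : ∑ g : G, fixCount Ω g = Nat.card G := by
    haveI : Fintype (MulAction.orbitRel.Quotient G Ω) := Fintype.ofFinite _
    have hq : Fintype.card (MulAction.orbitRel.Quotient G Ω) = 1 := by
      rw [Fintype.card_eq_one_iff]
      refine ⟨Quotient.mk'' a₀, fun q => ?_⟩
      induction q using Quotient.inductionOn' with
      | h a => obtain ⟨g, hg⟩ := htr a₀ a; exact Quotient.sound' ⟨g, hg⟩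
    have hb := MulAction.sum_card_fixedBy_eq_card_orbits_mul_card_group G Ω
    rw [hq, one_mul, ← Nat.card_eq_fintype_card] at hb
    rw [← hb]
    refine Finset.sum_congr rfl fun g _ => ?_
    rw [fixCount, ← Nat.card_eq_fintype_card, ← Nat.card_eq_finsetCard]
    refine Nat.card_congr (Equiv.subtypeEquivRight fun p => ?_)
    simp [MulAction.mem_fixedBy]
  refine Characters.isIrr_of_gen_norm_one
    (Characters.isGen_sub (Characters.isGen_of_isCharacter (isCharacter_fixCount Ω))
      Characters.isGen_one) ?_ ?_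
  · rw [Cfsg.classInner]
    have hexp : ∀ g : G, ((fixCount Ω g : ℂ) - 1) * conj ((fixCount Ω g : ℂ) - 1) =
        ((fixCount Ω g * fixCount Ω g : ℕ) : ℂ) - 2 * (fixCount Ω g : ℂ) + 1 := fun g => by
      rw [map_sub, map_one, Complex.conj_natCast]; push_cast; ring
    rw [Finset.sum_congr rfl fun g _ => hexp g, Finset.sum_add_distrib, Finset.sum_sub_distrib,
      ← Finset.mul_sum, ← Nat.cast_sum, ← Nat.cast_sum, sum_fixCount_sq Ω a₀ b₀ hne h2, h1,
      Finset.sum_const, Finset.card_univ, ← Nat.card_eq_fintype_card, nsmul_eq_mul, mul_one]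
    push_cast
    rw [show (2 * (Nat.card G : ℂ) - 2 * Nat.card G + Nat.card G) = Nat.card G by ring]
    exact inv_mul_cancel₀ Characters.natCard_ne_zero
  · have : fixCount Ω (1 : G) = Fintype.card Ω := by simp [fixCount]
    simp only [Complex.sub_re, Complex.natCast_re, Complex.one_re, this]
    have : 1 ≤ Fintype.card Ω := Fintype.card_pos_iff.2 ⟨a₀⟩
    have : (1 : ℝ) ≤ Fintype.card Ω := by exact_mod_cast this
    linarith

end TwoTransitive

section Outside

variable {M : Ideal AlgInt}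

/-- A real character of odd degree lies in the principal 2-block. -/
theorem real_mem_principalBlock (hM : Cfsg.IsPModular 2 M) (ψ : IrrCharacter G)
    (hdeg : Odd (Cfsg.charDegree (ψ : G → ℂ))) (hreal : ∀ g, conj ((ψ : G → ℂ) g) = (ψ : G → ℂ) g) :
    ψ ∈ Cfsg.principalBlock M G := by
  haveI := Blocks.IsPModular.isPrime hM
  refine BlockPairing.mem_principalBlock_of_inv hM ψ hdeg fun g _ _ => ?_
  simp only [BlockPairing.redVal, conj_value, hreal]

/-- Off the principal block: orthogonality on the regular elements against the principal block. -/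
theorem sum_regular_eq_zero (hM : Cfsg.IsPModular 2 M) {χ ψ : IrrCharacter G}
    (hχ : χ ∉ Cfsg.principalBlock M G) (hψ : ψ ∈ Cfsg.principalBlock M G) :
    ∑ᶠ x ∈ {x : G | ¬ 2 ∣ orderOf x}, (χ : G → ℂ) x * conj ((ψ : G → ℂ) x) = 0 := by
  haveI := Blocks.IsPModular.isPrime hM
  refine BlocksLocal.sum_regular_mul_conj_eq_zero hM fun hs => hχ ?_
  rw [BlocksCharsC.principalBlock_eq] at hψ ⊢
  exact Blocks.sameBlock_trans hψ (Blocks.sameBlock_symm hs)

/-- The squares over the regular elements. -/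
theorem sum_regular_normSq_le (χ : IrrCharacter G) :
    (∑ᶠ x ∈ {x : G | ¬ 2 ∣ orderOf x}, (Complex.normSq ((χ : G → ℂ) x) : ℂ)).re ≤
      (Nat.card G : ℝ) := by
  classical
  have h := Characters.classInner_isIrr_self χ.2
  rw [Cfsg.classInner, inv_mul_eq_iff_eq_mul₀ Characters.natCard_ne_zero, mul_one] at h
  simp only [Complex.mul_conj] at h
  have h' := congrArg Complex.re h
  simp only [Complex.re_sum, Complex.ofReal_re, Complex.natCast_re] at h'
  rw [← h', show {x : G | ¬ 2 ∣ orderOf x} =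
    ↑(Finset.univ.filter fun x : G => ¬ 2 ∣ orderOf x) by ext; simp, finsum_mem_coe_finset,
    Complex.re_sum]
  simp only [Complex.ofReal_re]
  exact Finset.sum_le_sum_of_subset_of_nonneg (Finset.filter_subset _ _)
    fun _ _ _ => Complex.normSq_nonneg _

/-- Off the principal block the degree takes the 2-part common to the regular classes. -/
theorem two_pow_dvd_degree (hM : Cfsg.IsPModular 2 M) {χ : IrrCharacter G} {d v : ℕ}
    (hχ : χ ∉ Cfsg.principalBlock M G) (hd : (χ : G → ℂ) 1 = d)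
    (hv : ∀ g : G, ¬ 2 ∣ orderOf g → g ≠ 1 →
      2 ^ v ∣ (Subgroup.centralizer ({g} : Set G)).index) :
    2 ^ v ∣ d := by
  haveI := Blocks.IsPModular.isPrime hM
  by_contra hnd
  apply hχ
  refine BlocksCharsC.mem_principalBlock_of_regular hM fun g hg => ?_
  have hdne : (d : ℂ) ≠ 0 := hd ▸ Characters.irr_one_ne_zero χ.2
  by_cases h1 : g = 1
  · subst h1
    have hidx : (Subgroup.centralizer ({(1 : G)} : Set G)).index = 1 := by
      rw [Subgroup.index_eq_one, eq_top_iff]
      intro y _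
      rw [Subgroup.mem_centralizer_singleton_iff, one_mul, mul_one]
    rw [Cfsg.centralChar, hidx, Nat.cast_one, one_mul,
      div_self (Characters.irr_one_ne_zero χ.2), sub_self]
    exact Blocks.memLocalIdeal_zero
  obtain ⟨c, hc⟩ := hv g hg h1
  have hd0 : d ≠ 0 := by exact_mod_cast hdne
  obtain ⟨a, o, ho, hdo⟩ := Nat.exists_eq_two_pow_mul_odd hd0
  have hav : a < v := by
    by_contra hge
    exact hnd (hdo ▸ Dvd.dvd.mul_right (pow_dvd_pow 2 (by omega)) o)
  obtain ⟨b, rfl⟩ : ∃ b, v = a + (b + 1) := ⟨v - a - 1, by omega⟩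
  obtain ⟨z, hz⟩ : ∃ z : AlgInt, (z : ℂ) = (χ : G → ℂ) g :=
    ⟨⟨_, Characters.gen_isIntegral (Characters.isGen_of_isIrr χ.2) g⟩, rfl⟩
  have hoM : ((o : ℕ) : AlgInt) ∉ M := by
    intro hmem
    rw [Blocks.IsPModular.natCast_mem_iff hM] at hmem
    exact Nat.not_even_iff_odd.2 ho (even_iff_two_dvd.2 hmem)
  refine ⟨(2 : AlgInt) * ((2 ^ b * c : ℕ) : AlgInt) * (z - ((2 ^ a * o : ℕ) : AlgInt)), o,
    Ideal.mul_mem_right _ _ (Ideal.mul_mem_right _ _ ?_), hoM, ?_⟩
  · have h2 : ((2 : ℕ) : AlgInt) ∈ M := hM.2.2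
    exact_mod_cast h2
  rw [Cfsg.centralChar, hc, hd, hdo]
  have ho' : (o : ℂ) ≠ 0 := Nat.cast_ne_zero.2 (by rintro rfl; exact absurd ho (by decide))
  push_cast
  rw [hz, pow_add, pow_succ, show ((2 : AlgInt) : ℂ) = 2 from rfl]
  field_simp

end Outside

end CfsgLib.TwoBlockMathieu
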